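import Groth.Agent.GrpScheme.Special.Words
import Groth.Agent.GrpScheme.RedIdComponent
import Groth.Agent.GrpScheme.CharSplit
import Groth.Agent.GrpScheme.RatDense
import Groth.Agent.SubtrLib.Val
import Groth.Agent.FibSemi.Basic
import Groth.Agent.Borel50.Lin.TorusSch
import Groth.Agent.RedSub.Basic

/-!
# Specialisation of connected subgroups along a valuation ring

The closure of a connected subgroup of the generic fibre meets the special fibre in a subgroup of no smaller
dimension; commutator words vanishing on the former vanish on the identity component of the latter, as the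
closure of the unit meets the special fibre in finitely many points.
-/

set_option autoImplicit false
set_option backward.isDefEq.respectTransparency false

universe u

open CategoryTheory MonoidalCategory CartesianMonoidalCategory MonObj GrpObj AlgebraicGeometry Limits
  TopologicalSpace IsLocalRing

noncomputable section

namespace Groth.Agent.GrpScheme.Special

open CharSplit Groth.Agent.RedPts

attribute [local instance] Borel50.Lin.ptTop
attribute [-instance] Groth.Agent.GrpArtin.grpObjBC

variable {V : Type u} [CommRing V] [IsDomain V] [ValuationRing V] {K : Type u} [Field K] [IsAlgClosed K]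
  [Algebra V K] [IsFractionRing V K] [IsAlgClosed (ResidueField V)]

/-- The generic point of the spectrum of a valuation ring. -/
abbrev gK (V : Type u) [CommRing V] (K : Type u) [Field K] [Algebra V K] :
    Spec (CommRingCat.of K) ⟶ Spec (CommRingCat.of V) :=
  Spec.map (CommRingCat.ofHom (algebraMap V K))

/-- The closed point of the spectrum of a valuation ring. -/
abbrev gk (V : Type u) [CommRing V] [IsLocalRing V] :
    Spec (CommRingCat.of (ResidueField V)) ⟶ Spec (CommRingCat.of V) :=
  Spec.map (CommRingCat.ofHom (IsLocalRing.residue V))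

omit [ValuationRing V] [IsAlgClosed K] [IsAlgClosed (ResidueField V)] in
lemma gK_apply [IsDomain V] (t : Spec (CommRingCat.of K)) : gK V K t = SubtrLib.gen V := by
  apply PrimeSpectrum.ext
  change Ideal.comap (algebraMap V K) (t : PrimeSpectrum K).asIdeal = ⊥
  rw [(Ideal.eq_bot_or_top (t : PrimeSpectrum K).asIdeal).resolve_right (t : PrimeSpectrum K).2.ne_top]
  exact Ideal.comap_bot_of_injective _ (IsFractionRing.injective V K)

omit [IsDomain V] [ValuationRing V] in
lemma gk_apply {V : Type u} [CommRing V] [IsLocalRing V] (t : Spec (CommRingCat.of (ResidueField V))) :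
    gk V t = IsLocalRing.closedPoint V := by
  apply PrimeSpectrum.ext
  change Ideal.comap (IsLocalRing.residue V) (t : PrimeSpectrum (ResidueField V)).asIdeal = maximalIdeal V
  rw [(Ideal.eq_bot_or_top (t : PrimeSpectrum (ResidueField V)).asIdeal).resolve_right
    (t : PrimeSpectrum (ResidueField V)).2.ne_top, ← RingHom.ker_eq_comap_bot, IsLocalRing.ker_residue]

variable {G : Over (Spec (CommRingCat.of V))} [GrpObj G] [LocallyOfFiniteType G.hom] [QuasiCompact G.hom]

omit [IsDomain V] [ValuationRing V] [LocallyOfFiniteType G.hom] [QuasiCompact G.hom] in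
lemma ptsEquiv_symm_apply {V : Type u} [CommRing V] {G : Over (Spec (CommRingCat.of V))} [GrpObj G] {F : Type u}
    [Field F] (g : Spec (CommRingCat.of F) ⟶ Spec (CommRingCat.of V)) (x : Pt (Red.bc g G)) :
    ((Solv19.ptsEquiv G g).symm x).left (IsLocalRing.closedPoint F) = pullback.fst G.hom g (cpt x) := by
  show (((Over.mapPullbackAdj g).homEquiv _ _).symm x).left _ = _
  rw [Adjunction.homEquiv_counit]
  rfl

omit [IsAlgClosed K] [IsAlgClosed (ResidueField V)] [LocallyOfFiniteType G.hom] [QuasiCompact G.hom] in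
/-- A closed set containing all points over the generic geometric point of a flat scheme is everything. -/
lemma eq_univ_of_points [IsAlgClosed K] {T : Over (Spec (CommRingCat.of V))} [Flat T.hom] [LocallyOfFiniteType T.hom]
    {C : Set T.left} (hC : IsClosed C)
    (h : ∀ φ : (Over.map (gK V K)).obj (𝟙_ _) ⟶ T, φ.left (IsLocalRing.closedPoint K) ∈ C) : C = Set.univ := by
  refine Set.eq_univ_of_forall fun p => ?_
  by_contra hp
  obtain ⟨p', hp', he⟩ := Flat.generalizingMap T.hom (SubtrLib.gen_specializes (T.hom p))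
  have hp'' : p' ∈ Cᶜ := hp'.mem_open hC.isOpen_compl hp
  obtain ⟨φ, hφ⟩ := Solv19.exists_geomPoint_mem hC.isOpen_compl hp'' (gK V K) (by rw [gK_apply, he])
  exact hφ (h φ)

omit [IsAlgClosed (ResidueField V)] in
/-- The closure of the generic value of the unit section meets the closed fibre in a finite set. -/
lemma finite_closure_unit :
    {x | x ∈ closure {η[G].left (SubtrLib.gen V)} ∧ G.hom x = IsLocalRing.closedPoint V}.Finite := by
  classical
  have hcs : CompactSpace G.left := (quasiCompact_iff_compactSpace G.hom).1 inferInstance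
  obtain ⟨s, hs⟩ := isCompact_univ.elim_finite_subcover (fun U : G.left.affineOpens => (U.1 : Set G.left))
    (fun U => U.1.2) (fun x _ => by
      obtain ⟨U, hU, hxU, -⟩ := exists_isAffineOpen_mem_and_subset (x := x) (U := ⊤) trivial
      exact Set.mem_iUnion.2 ⟨⟨U, hU⟩, hxU⟩)
  let e := η[G].left (SubtrLib.gen V)
  suffices ∀ U : G.left.affineOpens,
      {x | (x ∈ closure {e} ∧ G.hom x = IsLocalRing.closedPoint V) ∧ x ∈ U.1}.Subsingleton by
    refine Set.Finite.subset (Set.Finite.biUnion s.finite_toSet fun U _ => (this U).finite) fun x hx => ?_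
    obtain ⟨U, hU, hxU⟩ := Set.mem_iUnion₂.1 (hs (Set.mem_univ x))
    exact Set.mem_biUnion hU ⟨hx, hxU⟩
  rintro ⟨U, hU⟩ x ⟨⟨hxe, hxs⟩, hxU⟩ y ⟨⟨hye, hys⟩, hyU⟩
  let gam : Spec (CommRingCat.of (FractionRing V)) ⟶ G.left := gK V (FractionRing V) ≫ η[G].left
  have hgam : ∀ t, gam t = e := fun t => by rw [Scheme.Hom.comp_apply, gK_apply]; rfl
  have heU : e ∈ U := (specializes_iff_mem_closure.2 hxe).mem_open U.2 hxU
  have hpre : (⊤ : (Spec (CommRingCat.of (FractionRing V))).Opens) ≤ gam ⁻¹ᵁ U := fun t _ => by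
    show gam t ∈ U; rw [hgam]; exact heU
  let ψ : Γ(G.left, U) →+* (FractionRing V) :=
    (gam.appLE U ⊤ hpre ≫ (Scheme.ΓSpecIso (CommRingCat.of (FractionRing V))).hom).hom
  let str : V →+* Γ(G.left, U) :=
    ((Scheme.ΓSpecIso (CommRingCat.of V)).inv ≫ G.hom.appLE ⊤ U le_top).hom
  have hgamg : gam ≫ G.hom = gK V (FractionRing V) := by rw [Category.assoc, Over.w η[G]]; exact Category.comp_id _
  have hψs : ∀ v, ψ (str v) = algebraMap V (FractionRing V) v := by
    intro v
    have h1 : G.hom.appLE ⊤ U le_top ≫ gam.appLE U ⊤ hpre = (gK V (FractionRing V)).appTop := by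
      have hc : ∀ {f g : Spec (CommRingCat.of (FractionRing V)) ⟶ Spec (CommRingCat.of V)} (h : f = g) e₁,
          f.appLE ⊤ ⊤ e₁ = g.appTop := by
        rintro f _ rfl e₁
        simp [Scheme.Hom.appLE]
      rw [Scheme.Hom.appLE_comp_appLE]
      exact hc hgamg _
    show ((Scheme.ΓSpecIso (CommRingCat.of V)).inv ≫ G.hom.appLE ⊤ U le_top ≫ gam.appLE U ⊤ hpre ≫
      (Scheme.ΓSpecIso (CommRingCat.of (FractionRing V))).hom) v = _
    rw [← Category.assoc (G.hom.appLE ⊤ U le_top), h1, Scheme.ΓSpecIso_naturality, Iso.inv_hom_id_assoc]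
    rfl
  have hψ0 : ∀ a, ψ a = 0 → e ∉ G.left.basicOpen a := by
    intro a ha he
    have ht : IsLocalRing.closedPoint (FractionRing V) ∈ gam ⁻¹ᵁ G.left.basicOpen a := by
      rw [Scheme.Hom.mem_preimage, hgam]; exact he
    rw [Scheme.preimage_basicOpen] at ht
    have : gam.appLE U ⊤ hpre a = 0 :=
      (ConcreteCategory.bijective_of_isIso (Scheme.ΓSpecIso (CommRingCat.of (FractionRing V))).hom).1 (ha.trans (map_zero _).symm)
    have h2 : IsLocalRing.closedPoint (FractionRing V) ∈ (Spec (CommRingCat.of (FractionRing V))).basicOpen (gam.appLE U ⊤ hpre a) := by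
      rw [Scheme.Hom.appLE, CommRingCat.comp_apply, Scheme.basicOpen_res]
      exact ⟨trivial, ht⟩
    rw [this, Scheme.basicOpen_zero] at h2
    exact h2
  have main : ∀ z : G.left, z ∈ closure {e} → G.hom z = IsLocalRing.closedPoint V → (hz : z ∈ U) → ∀ a,
      a ∈ (hU.primeIdealOf ⟨z, hz⟩).asIdeal ↔ ∃ v ∈ maximalIdeal V, ψ a = algebraMap V (FractionRing V) v := by
    intro z hze hzs hz a
    let q := (hU.primeIdealOf ⟨z, hz⟩).asIdeal
    have hq : ∀ b, b ∈ q ↔ z ∉ G.left.basicOpen b := fun b => by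
      have h1 : hU.primeIdealOf ⟨z, hz⟩ ∈ hU.fromSpec ⁻¹ᵁ G.left.basicOpen b ↔ z ∈ G.left.basicOpen b := by
        rw [Scheme.Hom.mem_preimage]
        rw [hU.fromSpec_primeIdealOf]
      rw [hU.fromSpec_preimage_basicOpen] at h1
      rw [← h1]
      exact not_not.symm
    have h0 : ∀ b, ψ b = 0 → b ∈ q := fun b hb => (hq b).2 fun hzb =>
      hψ0 b hb ((specializes_iff_mem_closure.2 hze).mem_open (G.left.basicOpen b).2 hzb)
    have hstr : ∀ v, str v ∈ q ↔ v ∈ maximalIdeal V := fun v => by
      have hp : (hU.primeIdealOf ⟨z, hz⟩).asIdeal.comap str = maximalIdeal V := by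
        have h1 := congrArg PrimeSpectrum.asIdeal
          (IsAffineOpen.comap_primeIdealOf_appLE (f := G.hom) ⊤ (isAffineOpen_top _) U hU le_top hz)
        have h2 : ((isAffineOpen_top (Spec (CommRingCat.of V))).primeIdealOf ⟨G.hom z, trivial⟩).asIdeal.comap
            (Scheme.ΓSpecIso (CommRingCat.of V)).inv.hom = maximalIdeal V := by
          have h3 := (isAffineOpen_top (Spec (CommRingCat.of V))).fromSpec_primeIdealOf ⟨G.hom z, trivial⟩
          rw [IsAffineOpen.fromSpec_top, Scheme.isoSpec_Spec_inv] at h3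
          exact (congrArg PrimeSpectrum.asIdeal h3).trans (congrArg PrimeSpectrum.asIdeal hzs)
        show Ideal.comap ((G.hom.appLE ⊤ U le_top).hom.comp (Scheme.ΓSpecIso (CommRingCat.of V)).inv.hom) _ = _
        rw [← Ideal.comap_comap, show (hU.primeIdealOf ⟨z, hz⟩).asIdeal.comap (G.hom.appLE ⊤ U le_top).hom = _ from h1]
        exact h2
      rw [← hp]; rfl
    have hq1 : (1 : Γ(G.left, U)) ∉ q := (Ideal.ne_top_iff_one _).1 (hU.primeIdealOf ⟨z, hz⟩).2.ne_top
    constructor
    · intro ha
      rcases ValuationRing.isInteger_or_isInteger V (ψ a) with ⟨v, hv⟩ | ⟨v, hv⟩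
      · refine ⟨v, (hstr v).1 ?_, hv.symm⟩
        have := h0 (a - str v) (by rw [map_sub, hψs]; exact sub_eq_zero.2 hv.symm)
        simpa using q.sub_mem ha this
      · by_cases hv0 : ψ a = 0
        · exact ⟨0, zero_mem _, by rw [hv0, map_zero]⟩
        have := h0 (a * str v - 1) (by
          rw [map_sub, map_mul, hψs, map_one, show algebraMap V (FractionRing V) v = (ψ a)⁻¹ from hv, mul_inv_cancel₀ hv0, sub_self])
        exact absurd (by simpa using q.sub_mem (q.mul_mem_right (str v) ha) this) hq1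
    · rintro ⟨v, hv, hav⟩
      have := h0 (a - str v) (by rw [map_sub, hψs, hav, sub_self])
      simpa using q.add_mem this ((hstr v).2 hv)
  have hpq : hU.primeIdealOf ⟨x, hxU⟩ = hU.primeIdealOf ⟨y, hyU⟩ := PrimeSpectrum.ext <| Ideal.ext fun a =>
    (main x hxe hxs hxU a).trans (main y hye hys hyU a).symm
  exact (hU.fromSpec_primeIdealOf ⟨x, hxU⟩).symm.trans ((congrArg hU.fromSpec hpq).trans
    (hU.fromSpec_primeIdealOf ⟨y, hyU⟩))

set_option maxHeartbeats 1600000 in
set_option synthInstance.maxHeartbeats 400000 in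
/-- Connected subgroups specialise, with the vanishing of their commutator words. -/
theorem exists_special (H : Over (Spec (CommRingCat.of K))) [GrpObj H] (i : H ⟶ Red.bc (gK V K) G) [IsMonHom i]
    [IsClosedImmersion i.left] [Smooth H.hom] [ConnectedSpace H.left] :
    ∃ (R : Over (Spec (CommRingCat.of (ResidueField V)))) (_ : GrpObj R) (r : R ⟶ Red.bc (gk V) G),
      IsMonHom r ∧ IsClosedImmersion r.left ∧ Smooth R.hom ∧ ConnectedSpace R.left ∧
      topologicalKrullDim H.left ≤ topologicalKrullDim R.left ∧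
      (∀ n, (Solv19.word H n).2 = 1 → (Solv19.word R n).2 = 1) ∧
      (∀ n, (S18072.lword H n).2 = 1 → (S18072.lword R n).2 = 1) := by
  let GK := Red.bc (gK V K) G
  let Gk := Red.bc (gk V) G
  have : LocallyOfFiniteType GK.hom := inferInstanceAs (LocallyOfFiniteType (pullback.snd G.hom (gK V K)))
  have : LocallyOfFiniteType Gk.hom := inferInstanceAs (LocallyOfFiniteType (pullback.snd G.hom (gk V)))
  have : QuasiCompact GK.hom := inferInstanceAs (QuasiCompact (pullback.snd G.hom (gK V K)))
  have : QuasiCompact Gk.hom := inferInstanceAs (QuasiCompact (pullback.snd G.hom (gk V)))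
  have : QuasiCompact H.hom := by rw [← Over.w i]; infer_instance
  have : IsReduced H.left := HomFlat.isReduced_of_smooth H.hom
  have : IsIntegral H.left := Rosenlicht.isIntegral_group H
  have : IsPreimmersion (gK V K) := IsPreimmersion.of_isLocalization (nonZeroDivisors V)
  have : IsClosedImmersion (gk V) := IsClosedImmersion.spec_of_surjective _ IsLocalRing.residue_surjective
  let pK : GK.left ⟶ G.left := pullback.fst G.hom (gK V K)
  let pk : Gk.left ⟶ G.left := pullback.fst G.hom (gk V)
  have hpK : Topology.IsEmbedding pK :=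
    (inferInstance : IsPreimmersion (pullback.fst G.hom (gK V K))).base_embedding
  have hpk : Topology.IsClosedEmbedding pk :=
    (inferInstance : IsClosedImmersion (pullback.fst G.hom (gk V))).base_closed
  have hpKhom : ∀ x, G.hom (pK x) = SubtrLib.gen V := fun x => by
    rw [← Scheme.Hom.comp_apply, pullback.condition, Scheme.Hom.comp_apply, gK_apply]
  have hpkhom : ∀ x, G.hom (pk x) = IsLocalRing.closedPoint V := fun x => by
    rw [← Scheme.Hom.comp_apply, pullback.condition, Scheme.Hom.comp_apply, gk_apply]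
  let ξ : G.left := pK (i.left (genericPoint H.left))
  let C : Closeds G.left := ⟨closure {ξ}, isClosed_closure⟩
  have hHC : ∀ h : H.left, pK (i.left h) ∈ (C : Set G.left) := fun h =>
    specializes_iff_mem_closure.1 (((genericPoint_specializes h).map i.left.continuous).map pK.continuous)
  have hCH : ∀ x : GK.left, pK x ∈ (C : Set G.left) → x ∈ Set.range i.left := fun x hx => by
    have h1 : i.left (genericPoint H.left) ⤳ x :=
      hpK.isInducing.specializes_iff.1 (specializes_iff_mem_closure.2 hx)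
    exact h1.mem_closed i.left.isClosedEmbedding.isClosed_range ⟨_, rfl⟩
  let Z : Over (Spec (CommRingCat.of V)) :=
    Over.mk ((Scheme.IdealSheafData.vanishingIdeal C).subschemeι ≫ G.hom)
  let zι' : Z ⟶ G := Over.homMk (Scheme.IdealSheafData.vanishingIdeal C).subschemeι rfl
  have hzr : Set.range zι'.left = (C : Set G.left) := RedSub.range_vanishingIdeal_subschemeι C
  have : IsClosedImmersion zι'.left :=
    inferInstanceAs (IsClosedImmersion (Scheme.IdealSheafData.vanishingIdeal C).subschemeι)
  have : IsReduced Z.left := RedSub.isReduced_vanishingIdeal C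
  have : LocallyOfFiniteType Z.hom := by rw [← Over.w zι']; infer_instance
  have : Flat Z.hom := by
    refine SubtrLib.flat_of_generic _ fun U hU => ?_
    obtain ⟨z, hz⟩ : ∃ z, z ∈ U := by
      by_contra hne
      exact hU (bot_unique fun x hx => hne ⟨x, hx⟩)
    obtain ⟨z₀, hz₀⟩ : ξ ∈ Set.range zι'.left := by rw [hzr]; exact subset_closure rfl
    refine ⟨z₀, (zι'.left.isEmbedding.isInducing.specializes_iff.1 ?_).mem_open U.2 hz, ?_⟩
    · rw [hz₀]
      exact specializes_iff_mem_closure.2 (hzr.le ⟨z, rfl⟩)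
    · rw [← Over.w zι', Scheme.Hom.comp_apply, hz₀, hpKhom]
  -- points over the generic point
  let PK := (Over.map (gK V K)).obj (𝟙_ (Over (Spec (CommRingCat.of K))))
  let FK : Pt H →* (PK ⟶ G) := (Solv19.ptsEquiv G (gK V K)).symm.toMonoidHom.comp
    { toFun := fun x => x ≫ i, map_one' := MonObj.one_comp i, map_mul' := fun a b => MonObj.mul_comp a b i }
  have hFK : ∀ x, (FK x).left (IsLocalRing.closedPoint K) = pK (i.left (cpt x)) := fun x => by
    show ((Solv19.ptsEquiv G (gK V K)).symm (x ≫ i)).left _ = _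
    rw [ptsEquiv_symm_apply, cpt, Over.comp_left, Scheme.Hom.comp_apply]
    rfl
  have hK1 : ∀ z : PK ⟶ Z, ∃ x, FK x = z ≫ zι' := fun z => by
    let y : Pt GK := Solv19.ptsEquiv G (gK V K) (z ≫ zι')
    have hy : cpt y ∈ Set.range i.left := hCH _ (by
      have := ptsEquiv_symm_apply (gK V K) y
      rw [show (Solv19.ptsEquiv G (gK V K)).symm y = z ≫ zι' from MulEquiv.symm_apply_apply _ _] at this
      show pullback.fst G.hom (gK V K) (cpt y) ∈ _
      rw [← this, ← hzr, Over.comp_left, Scheme.Hom.comp_apply]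
      exact ⟨_, rfl⟩)
    have hsub : Set.range y.left ⊆ Set.range i.left := by
      rintro _ ⟨t, rfl⟩
      rwa [Subsingleton.elim (α := PrimeSpectrum K) t (IsLocalRing.closedPoint K)]
    have : IsReduced (𝟙_ (Over (Spec (CommRingCat.of K)))).left := inferInstanceAs (IsReduced (Spec _))
    obtain ⟨l, hl⟩ := RedSub.exists_lift_closed i.left y.left hsub
    let x : Pt H := Over.homMk l (by rw [← Over.w i, reassoc_of% hl, Over.w])
    refine ⟨x, ?_⟩
    show (Solv19.ptsEquiv G (gK V K)).symm (x ≫ i) = _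
    rw [show x ≫ i = y from Over.OverMorphism.ext hl]
    exact MulEquiv.symm_apply_apply _ _
  have hKval : ∀ {T : Over (Spec (CommRingCat.of V))} (φ : PK ⟶ T) (w : T ⟶ G),
      w.left (φ.left (IsLocalRing.closedPoint K)) = (φ ≫ w).left (IsLocalRing.closedPoint K) := fun φ w => rfl
  -- the special fibre of the closure is a subgroup
  let C₀ : Closeds Gk.left := ⟨pk ⁻¹' (C : Set G.left), C.isClosed.preimage pk.continuous⟩
  let Pk := (Over.map (gk V)).obj (𝟙_ (Over (Spec (CommRingCat.of (ResidueField V)))))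
  let Ek : Pt Gk →* (Pk ⟶ G) := (Solv19.ptsEquiv G (gk V)).symm.toMonoidHom
  have hEk : ∀ x, (Ek x).left (IsLocalRing.closedPoint _) = pk (cpt x) := ptsEquiv_symm_apply (gk V)
  have hredk : IsReduced Pk.left := inferInstanceAs (IsReduced (Spec _))
  have hliftk : ∀ x : Pt Gk, cpt x ∈ (C₀ : Set Gk.left) → ∃ z : Pk ⟶ Z, Ek x = z ≫ zι' := fun x hx => by
    have hsub : Set.range (Ek x).left ⊆ Set.range zι'.left := by
      rintro _ ⟨t, rfl⟩
      rw [hzr, Subsingleton.elim (α := PrimeSpectrum (ResidueField V)) t (IsLocalRing.closedPoint _), hEk]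
      exact hx
    obtain ⟨l, hl⟩ := RedSub.exists_lift_closed zι'.left (Ek x).left hsub
    exact ⟨Over.homMk l (by rw [← Over.w zι', reassoc_of% hl, Over.w]), (Over.OverMorphism.ext hl).symm⟩
  have hone : cpt (1 : Pt Gk) ∈ (C₀ : Set Gk.left) := by
    show pk (cpt 1) ∈ (C : Set G.left)
    have h1 : η[G].left (SubtrLib.gen V) ∈ (C : Set G.left) := by
      have h := hHC (cpt (1 : Pt H))
      rw [← hFK, map_one, Hom.one_def, Over.comp_left, Scheme.Hom.comp_apply] at h
      rwa [show (toUnit PK).left (IsLocalRing.closedPoint K) = SubtrLib.gen V from by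
        rw [← gK_apply (K := K) (IsLocalRing.closedPoint K)]
        exact congrArg (fun m : PK.left ⟶ _ => m (IsLocalRing.closedPoint K))
          ((Category.comp_id _).symm.trans (Over.w (toUnit PK)))] at h
    rw [← hEk, map_one, Hom.one_def, Over.comp_left, Scheme.Hom.comp_apply]
    exact ((SubtrLib.gen_specializes _).map η[G].left.continuous).mem_closed C.isClosed h1
  have hstab : ∀ x y : Pt Gk, cpt x ∈ (C₀ : Set Gk.left) → cpt y ∈ (C₀ : Set Gk.left) →
      cpt (x * y⁻¹) ∈ (C₀ : Set Gk.left) := by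
    intro x y hx hy
    obtain ⟨z₁, hz₁⟩ := hliftk x hx
    obtain ⟨z₂, hz₂⟩ := hliftk y hy
    let m : Z ⊗ Z ⟶ G := (fst Z Z ≫ zι') * (snd Z Z ≫ zι')⁻¹
    have : Flat (Z ⊗ Z).hom := inferInstanceAs (Flat (pullback.fst Z.hom Z.hom ≫ Z.hom))
    have : LocallyOfFiniteType (Z ⊗ Z).hom :=
      inferInstanceAs (LocallyOfFiniteType (pullback.fst Z.hom Z.hom ≫ Z.hom))
    have huniv := eq_univ_of_points (K := K) (C := m.left ⁻¹' (C : Set G.left)) (C.isClosed.preimage m.left.continuous)
      (fun φ => by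
        obtain ⟨a, ha⟩ := hK1 (φ ≫ fst _ _)
        obtain ⟨b, hb⟩ := hK1 (φ ≫ snd _ _)
        have hφ : φ ≫ m = FK (a * b⁻¹) := by
          rw [map_mul, map_inv, ha, hb, MonObj.comp_mul, GrpObj.comp_inv, Category.assoc, Category.assoc]
        rw [Set.mem_preimage, hKval, hφ, hFK]
        exact hHC _)
    have hxy : lift z₁ z₂ ≫ m = Ek (x * y⁻¹) := by
      rw [map_mul, map_inv, hz₁, hz₂, MonObj.comp_mul, GrpObj.comp_inv, lift_fst_assoc, lift_snd_assoc]
    show pk (cpt (x * y⁻¹)) ∈ (C : Set G.left)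
    rw [← hEk, ← hxy, Over.comp_left, Scheme.Hom.comp_apply]
    exact huniv.ge (Set.mem_univ _)
  -- the reduced subgroup
  let Q := Component.redSub Gk C₀
  let qι : Q ⟶ Gk := Over.homMk (Scheme.IdealSheafData.vanishingIdeal C₀).subschemeι rfl
  have hqr : Set.range qι.left = (C₀ : Set Gk.left) := RedSub.range_vanishingIdeal_subschemeι C₀
  have : IsClosedImmersion qι.left :=
    inferInstanceAs (IsClosedImmersion (Scheme.IdealSheafData.vanishingIdeal C₀).subschemeι)
  have : Mono qι := Over.mono_of_mono_left _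
  have : IsReduced Q.left := RedSub.isReduced_vanishingIdeal C₀
  have : LocallyOfFiniteType Q.hom := by rw [← Over.w qι]; infer_instance
  have : QuasiCompact Q.hom := by rw [← Over.w qι]; infer_instance
  have : IsReduced (Q ⊗ Q).left :=
    RatDense.isReduced_pullback Q.hom (GrpAff.dense_ratPoints Q) Q.hom
  have : LocallyOfFiniteType (Q ⊗ Q).hom := inferInstanceAs (LocallyOfFiniteType (pullback.fst Q.hom Q.hom ≫ Q.hom))
  have hliftQ : ∀ {T : Over (Spec (CommRingCat.of (ResidueField V)))} [IsReduced T.left] [LocallyOfFiniteType T.hom]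
      (f : T ⟶ Gk), (∀ p : Pt T, cpt (p ≫ f) ∈ (C₀ : Set Gk.left)) → ∃ g : T ⟶ Q, g ≫ qι = f := by
    intro T _ _ f hf
    have hsub : Set.range f.left ⊆ Set.range qι.left := by
      rintro _ ⟨t, rfl⟩
      rw [hqr]
      by_contra ht
      obtain ⟨p, hp⟩ := exists_pt_mem (G := T) (U := f.left ⁻¹' (C₀ : Set Gk.left)ᶜ)
        ((C₀.isClosed.isOpen_compl).preimage f.left.continuous).isLocallyClosed ⟨t, ht⟩
      exact hp (hf p)
    obtain ⟨g, hg⟩ := RedSub.exists_lift_closed qι.left f.left hsub
    exact ⟨Over.homMk g (by rw [← Over.w qι, reassoc_of% hg, Over.w]), Over.OverMorphism.ext hg⟩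
  have : IsReduced (𝟙_ (Over (Spec (CommRingCat.of (ResidueField V))))).left := inferInstanceAs (IsReduced (Spec _))
  have : LocallyOfFiniteType (𝟙_ (Over (Spec (CommRingCat.of (ResidueField V))))).hom :=
    inferInstanceAs (LocallyOfFiniteType (𝟙 _))
  have hptQ : ∀ p : Pt Q, cpt (p ≫ qι) ∈ (C₀ : Set Gk.left) := fun p =>
    hqr.le ⟨cpt p, by rw [cpt, cpt, Over.comp_left, Scheme.Hom.comp_apply]⟩
  have hinvQ : ∀ p : Pt Q, cpt (p ≫ qι)⁻¹ ∈ (C₀ : Set Gk.left) := fun p => by
    have := hstab 1 (p ≫ qι) hone (hptQ p)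
    rwa [_root_.one_mul] at this
  obtain ⟨gQ, hqm⟩ := SubgroupObj.exists_grpObj qι
    (hliftQ _ (fun p => by
      have h := hstab ((p ≫ fst Q Q) ≫ qι) ((p ≫ snd Q Q) ≫ qι)⁻¹ (hptQ _) (hinvQ _)
      rw [_root_.inv_inv] at h
      rwa [MonObj.mul_eq_mul, MonObj.comp_mul, tensorHom_fst, tensorHom_snd, MonObj.comp_mul, ← Category.assoc,
        ← Category.assoc]))
    (hliftQ _ (fun p => by
      rwa [show p ≫ η[Gk] = (1 : Pt Gk) by rw [Hom.one_def, toUnit_unique p (toUnit _)]]))
    (hliftQ _ (fun p => by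
      rw [GrpObj.inv_eq_inv, GrpObj.comp_inv, Category.comp_id, GrpObj.comp_inv]
      exact hinvQ p))
  have := hqm
  obtain ⟨R, gR, rR, hrm, hrc, hRs, hRc, hRq, -, hRd⟩ := RedIdComponent.exists_reduced_idComponent_range Q
  have : IsClosedImmersion (rR ≫ qι).left := by rw [Over.comp_left]; infer_instance
  refine ⟨R, gR, rR ≫ qι, inferInstance, inferInstance, hRs, hRc, ?_, ?_⟩
  · -- dimensions
    rw [hRd]
    have h1 := FibSemi.topDim_closure_inter_fibre_le G.hom (ξ := ξ) (x := pk (cpt (1 : Pt Gk)))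
      (specializes_iff_mem_closure.2 hone) ⊤ trivial
    have e1 : topologicalKrullDim H.left ≤ topologicalKrullDim ↥(closure {ξ} ∩ G.hom ⁻¹' {G.hom ξ}) := by
      refine Topology.IsInducing.topologicalKrullDim_le
        (f := fun h : H.left => (⟨pK (i.left h), hHC h, by rw [Set.mem_preimage, hpKhom, hpKhom]; rfl⟩ :
          ↥(closure {ξ} ∩ G.hom ⁻¹' {G.hom ξ}))) ?_
      exact Topology.IsInducing.of_comp (by fun_prop) continuous_subtype_val
        (hpK.isInducing.comp i.left.isClosedEmbedding.isInducing)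
    refine e1.trans (h1.trans ?_)
    have hmem : ∀ w : ↥(((⊤ : G.left.Opens) : Set G.left) ∩ closure {ξ} ∩ G.hom ⁻¹' {G.hom (pk (cpt (1 : Pt Gk)))}),
        ∃ q : Q.left, pk (qι.left q) = w.1 := fun w => by
      have hw : w.1 ∈ Set.range pk := by
        show w.1 ∈ Set.range (pullback.fst G.hom (gk V))
        rw [Scheme.Pullback.range_fst]
        exact ⟨IsLocalRing.closedPoint _, by rw [gk_apply, w.2.2, hpkhom]⟩
      obtain ⟨y, hy⟩ := hw
      obtain ⟨q, hq⟩ : y ∈ Set.range qι.left := by
        rw [hqr]; show pk y ∈ (C : Set G.left); rw [hy]; exact w.2.1.2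
      exact ⟨q, by rw [hq, hy]⟩
    choose f hf using hmem
    refine Topology.IsInducing.topologicalKrullDim_le (f := f) ?_
    have hcomp : (pk ∘ qι.left) ∘ f = Subtype.val := funext hf
    have hc : Continuous f :=
      (hpk.isInducing.comp qι.left.isClosedEmbedding.isInducing).continuous_iff.2 (hcomp ▸ continuous_subtype_val)
    exact Topology.IsInducing.of_comp hc (pk.continuous.comp qι.left.continuous) (hcomp ▸ Topology.IsInducing.subtypeVal)
  -- words
  let Fk : Pt R →* (Pk ⟶ G) := Ek.comp
    { toFun := fun x => x ≫ rR ≫ qι, map_one' := MonObj.one_comp _, map_mul' := fun a b => MonObj.mul_comp a b _ }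
  have hk1 : ∀ x, ∃ z : Pk ⟶ Z, Fk x = z ≫ zι' := fun x => hliftk (x ≫ rR ≫ qι) (by
    rw [← Category.assoc]
    exact hptQ _)
  let E : Set Gk.left := pk ⁻¹' closure {η[G].left (SubtrLib.gen V)}
  have hEfin : E.Finite := by
    refine (finite_closure_unit (G := G)).preimage hpk.injective.injOn |>.subset fun x hx => ?_
    exact ⟨hx, hpkhom x⟩
  have key : ∀ {T : Over (Spec (CommRingCat.of V))} [Flat T.hom] [LocallyOfFiniteType T.hom] (w : T ⟶ G),
      (∀ φ : PK ⟶ T, φ ≫ w = 1) →
      ∀ {TR : Over (Spec (CommRingCat.of (ResidueField V)))}, S18072.Good TR → ∀ (o : 𝟙_ _ ⟶ TR) (wR : TR ⟶ R),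
      o ≫ wR = 1 → (∀ ψ : 𝟙_ _ ⟶ TR, ∃ φ : Pk ⟶ T, Fk (ψ ≫ wR) = φ ≫ w) → wR = 1 := by
    intro T _ _ w hw TR hTR o wR ho hpts
    obtain ⟨_, _, _⟩ := hTR
    have : IsReduced TR.left := HomFlat.isReduced_of_smooth TR.hom
    let c : PK.left := IsLocalRing.closedPoint K
    have hunitK : (1 : PK ⟶ G).left c = η[G].left (SubtrLib.gen V) := by
      rw [Hom.one_def, Over.comp_left, Scheme.Hom.comp_apply, show (toUnit PK).left c = SubtrLib.gen V from by
        rw [← gK_apply (K := K) c]
        exact congrArg (fun m : PK.left ⟶ _ => m c) ((Category.comp_id _).symm.trans (Over.w (toUnit PK)))]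
    have huniv := eq_univ_of_points (K := K) (C := w.left ⁻¹' closure {η[G].left (SubtrLib.gen V)})
      (isClosed_closure.preimage w.left.continuous) fun φ => by
        rw [Set.mem_preimage, hKval, hw, hunitK]
        exact subset_closure rfl
    let v : TR ⟶ Gk := wR ≫ rR ≫ qι
    have hEc : IsClosed E := isClosed_closure.preimage pk.continuous
    have hvE : ∀ t, v.left t ∈ E := by
      intro t
      by_contra ht
      obtain ⟨p, hp⟩ := exists_pt_mem (G := TR) (U := v.left ⁻¹' Eᶜ)
        (hEc.isOpen_compl.preimage v.left.continuous).isLocallyClosed ⟨t, ht⟩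
      apply hp
      obtain ⟨φ, hφ⟩ := hpts p
      show pk (v.left (cpt p)) ∈ closure {η[G].left (SubtrLib.gen V)}
      have : pk (v.left (cpt p)) = (Fk (p ≫ wR)).left (IsLocalRing.closedPoint _) := by
        show _ = (Ek ((p ≫ wR) ≫ rR ≫ qι)).left _
        rw [hEk, Category.assoc]
        rfl
      rw [this, hφ, Over.comp_left, Scheme.Hom.comp_apply]
      exact huniv.ge (Set.mem_univ _)
    have := LocallyOfFiniteType.jacobsonSpace Gk.hom
    have hd : DiscreteTopology E := by
      have : JacobsonSpace E := JacobsonSpace.of_isClosedEmbedding hEc.isClosedEmbedding_subtypeVal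
      have := hEfin.to_subtype
      exact JacobsonSpace.discreteTopology (Set.toFinite _)
    let vE : TR.left → E := fun t => ⟨v.left t, hvE t⟩
    have hsub := (isPreconnected_range (v.left.continuous.subtype_mk hvE)).subsingleton
    have hov : o ≫ v = 1 := by rw [← Category.assoc, ho, MonObj.one_comp]
    have hr : Set.range v.left ⊆ Set.range η[Gk].left := by
      rintro _ ⟨t, rfl⟩
      refine ⟨IsLocalRing.closedPoint _, ?_⟩
      have h2 : v.left t = v.left (o.left (IsLocalRing.closedPoint _)) := by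
        have h3 := hsub ⟨t, rfl⟩ ⟨o.left (IsLocalRing.closedPoint _), rfl⟩
        exact congrArg (fun e : ↥E => e.1) h3
      rw [h2, ← Scheme.Hom.comp_apply, ← Over.comp_left, hov, Hom.one_def, toUnit_unique (toUnit _) (𝟙 _),
        Category.id_comp]
    have hη : IsClosedImmersion η[Gk].left := by
      have : IsSeparated Gk.hom := IdComponent.isSeparated Gk
      have : IsClosedImmersion (η[Gk].left ≫ Gk.hom) := by
        rw [Over.w η[Gk]]; exact inferInstanceAs (IsClosedImmersion (𝟙 _))
      exact IsClosedImmersion.of_comp η[Gk].left Gk.hom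
    obtain ⟨l, hl⟩ := RedSub.exists_lift_closed η[Gk].left v.left hr
    let l' : TR ⟶ 𝟙_ _ := Over.homMk l (by rw [← Over.w η[Gk], reassoc_of% hl, Over.w])
    have hv1 : v = 1 := by
      rw [show v = l' ≫ η[Gk] from Over.OverMorphism.ext hl.symm, toUnit_unique l' (toUnit _), ← Hom.one_def]
    have : Mono rR := Over.mono_of_mono_left rR
    rw [← cancel_mono (rR ≫ qι), MonObj.one_comp]
    exact hv1
  have : IsReduced R.left := HomFlat.isReduced_of_smooth R.hom
  constructor
  · intro n hn
    obtain ⟨_, _⟩ := flat_sword zι' n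
    obtain ⟨hg, -, o, ho⟩ := S18072.word_facts (G := R) n
    refine key (sword zι' n).2 (fun φ => ?_) hg o _ ho (exists_sword_point zι' Fk hk1 n)
    obtain ⟨ψ, hψ⟩ := exists_word_point zι' FK hK1 n φ
    rw [← hψ, hn, MonObj.comp_one, map_one]
  · intro n hn
    obtain ⟨_, _⟩ := flat_nword zι' n
    obtain ⟨hg, -, o, ho⟩ := S18072.lword_facts (G := R) n
    refine key (nword zι' n).2 (fun φ => ?_) hg o _ ho (exists_nword_point zι' Fk hk1 n)
    obtain ⟨ψ, hψ⟩ := exists_lword_point zι' FK hK1 n φ
    rw [← hψ, hn, MonObj.comp_one, map_one]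

end Groth.Agent.GrpScheme.Special
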