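import Groth.Agent.GrpScheme.Special.Spread
import Groth.Agent.SecDim.ValDim
import Groth.Agent.DimLift.Basic

/-!
# Specialisation of normal subgroups containing the commutators

For a smooth group over a valuation ring, the closure of a normal subgroup of the generic fibre containing all
commutators meets the special fibre in such a subgroup, of no larger dimension.
-/

set_option autoImplicit false
set_option backward.isDefEq.respectTransparency false
set_option synthInstance.maxHeartbeats 400000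
set_option maxHeartbeats 1600000

universe u

open CategoryTheory MonoidalCategory CartesianMonoidalCategory MonObj GrpObj AlgebraicGeometry Limits
  TopologicalSpace IsLocalRing

noncomputable section

namespace Groth.Agent.GrpScheme.Special

open CharSplit Groth.Agent.RedPts

attribute [local instance] Borel50.Lin.ptTop
attribute [-instance] Groth.Agent.GrpArtin.grpObjBC

/-- A closed normal subgroup containing all commutators, of dimension at most `n`. -/
def HasDerived {k : Type u} [Field k] (G : Over (Spec (CommRingCat.of k))) [GrpObj G] (n : WithBot ℕ∞) : Prop :=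
  ∃ (N : Over (Spec (CommRingCat.of k))) (_ : GrpObj N) (i : N ⟶ G), IsMonHom i ∧ IsClosedImmersion i.left ∧
    AlgGrp.IsNormalHom i ∧ (∀ (T : Over (Spec (CommRingCat.of k))) (g h : T ⟶ G), ∃ m : T ⟶ N,
      g * h * g⁻¹ * h⁻¹ = m ≫ i) ∧ topologicalKrullDim N.left ≤ n

lemma HasDerived.of_iso {k : Type u} [Field k] {G G' : Over (Spec (CommRingCat.of k))} [GrpObj G] [GrpObj G']
    (e : Grp.mk G ≅ Grp.mk G') {n : WithBot ℕ∞} (h : HasDerived G n) : HasDerived G' n := by
  obtain ⟨N, gN, i, hi, hic, hn, hc, hd⟩ := h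
  let f : G ⟶ G' := e.hom.hom.hom
  let f' : G' ⟶ G := e.inv.hom.hom
  have hff : f' ≫ f = 𝟙 _ := congrArg (fun q => q.hom.hom) e.inv_hom_id
  have : IsMonHom f := inferInstanceAs (IsMonHom e.hom.hom.hom)
  have : IsMonHom f' := inferInstanceAs (IsMonHom e.inv.hom.hom)
  have : IsIso f.left := ((Over.forget _).mapIso ((Grp.forget _).mapIso e)).isIso_hom
  have hback : ∀ {T} (a : T ⟶ G'), (a ≫ f') ≫ f = a := fun a => by rw [Category.assoc, hff, Category.comp_id]
  refine ⟨N, gN, i ≫ f, inferInstance, by rw [Over.comp_left]; infer_instance, ?_, ?_, hd⟩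
  · intro T g x
    obtain ⟨x', hx'⟩ := hn T (g ≫ f') x
    refine ⟨x', ?_⟩
    calc g * (x ≫ i ≫ f) * g⁻¹ = ((g ≫ f') * (x ≫ i) * (g ≫ f')⁻¹) ≫ f := by
          rw [MonObj.mul_comp, MonObj.mul_comp, GrpObj.inv_comp, hback, Category.assoc]
      _ = x' ≫ i ≫ f := by rw [hx', Category.assoc]
  · intro T g h
    obtain ⟨m, hm⟩ := hc T (g ≫ f') (h ≫ f')
    refine ⟨m, ?_⟩
    calc g * h * g⁻¹ * h⁻¹ = ((g ≫ f') * (h ≫ f') * (g ≫ f')⁻¹ * (h ≫ f')⁻¹) ≫ f := by
          rw [MonObj.mul_comp, MonObj.mul_comp, MonObj.mul_comp, GrpObj.inv_comp, GrpObj.inv_comp, hback, hback]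
      _ = m ≫ i ≫ f := by rw [hm, Category.assoc]

lemma HasDerived.bc {k k' : Type u} [Field k] [Field k'] (g : Spec (CommRingCat.of k') ⟶ Spec (CommRingCat.of k))
    [IsIso g] {G : Over (Spec (CommRingCat.of k))} [GrpObj G] {n : WithBot ℕ∞} (h : HasDerived G n) :
    HasDerived (Red.bc g G) n := by
  obtain ⟨N, gN, i, hi, hic, hn, hc, hd⟩ := h
  let e := fun T => bcPts g G T
  have hnat : ∀ {T} (x : (Over.map g).obj T ⟶ N), e T (x ≫ i) = bcPts g N T x ≫ (Over.pullback g).map i :=
    fun x => (Over.mapPullbackAdj g).homEquiv_naturality_right _ _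
  refine ⟨Red.bc g N, inferInstance, (Over.pullback g).map i, inferInstance,
    LimGrp.property_map @IsClosedImmersion g i hic, ?_, ?_, ?_⟩
  · intro T a x
    obtain ⟨x', hx'⟩ := hn _ ((e T).symm a) ((bcPts g N T).symm x)
    refine ⟨bcPts g N T x', ?_⟩
    have h' := congrArg (e T) hx'
    rwa [map_mul, map_mul, map_inv, MulEquiv.apply_symm_apply, hnat, hnat, MulEquiv.apply_symm_apply] at h'
  · intro T a b
    obtain ⟨m, hm⟩ := hc _ ((e T).symm a) ((e T).symm b)
    refine ⟨bcPts g N T m, ?_⟩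
    have h' := congrArg (e T) hm
    rwa [map_mul, map_mul, map_mul, map_inv, map_inv, MulEquiv.apply_symm_apply, MulEquiv.apply_symm_apply,
      hnat] at h'
  · refine le_trans (le_of_eq ?_) hd
    have : IsIso (pullback.fst N.hom g) := inferInstance
    exact (Scheme.homeoOfIso (asIso (pullback.fst N.hom g))).isHomeomorph.topologicalKrullDim_eq

/-- A Noetherian sober space is the union of finitely many closures of points. -/
lemma exists_finite_generic (X : Type*) [TopologicalSpace X] [NoetherianSpace X] [QuasiSober X] :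
    ∃ F : Set X, F.Finite ∧ ∀ x, ∃ y ∈ F, y ⤳ x := by
  classical
  have hs := NoetherianSpace.finite_irreducibleComponents (α := X)
  let f : irreducibleComponents X → X := fun Z => (Z.2.1 : IsIrreducible Z.1).genericPoint
  have := hs.to_subtype
  refine ⟨Set.range f, Set.finite_range f, fun x => ⟨f ⟨_, irreducibleComponent_mem_irreducibleComponents x⟩, ⟨_, rfl⟩, ?_⟩⟩
  rw [specializes_iff_mem_closure]
  show x ∈ closure {(isIrreducible_irreducibleComponent (x := x)).genericPoint}
  rw [(isIrreducible_irreducibleComponent (x := x)).genericPoint_closure_eq]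
  exact subset_closure mem_irreducibleComponent

section Valuation

variable {V : Type u} [CommRing V] [IsDomain V] [ValuationRing V] {K : Type u} [Field K] [IsAlgClosed K]
  [Algebra V K] [IsFractionRing V K] [IsAlgClosed (ResidueField V)]
  {G : Over (Spec (CommRingCat.of V))} [GrpObj G] [Smooth G.hom] [QuasiCompact G.hom]

/-- Normal subgroups containing the commutators specialise. -/
theorem hasDerived_special {n : WithBot ℕ∞} (h : HasDerived (Red.bc (gK V K) G) n) :
    HasDerived (Red.bc (gk V) G) n := by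
  obtain ⟨N, gN, i, hi, hic, hnor, hcom, hdim⟩ := h
  let GK := Red.bc (gK V K) G
  let Gk := Red.bc (gk V) G
  have : LocallyOfFiniteType GK.hom := inferInstanceAs (LocallyOfFiniteType (pullback.snd G.hom (gK V K)))
  have : LocallyOfFiniteType Gk.hom := inferInstanceAs (LocallyOfFiniteType (pullback.snd G.hom (gk V)))
  have : QuasiCompact GK.hom := inferInstanceAs (QuasiCompact (pullback.snd G.hom (gK V K)))
  have : QuasiCompact Gk.hom := inferInstanceAs (QuasiCompact (pullback.snd G.hom (gk V)))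
  have : Smooth Gk.hom := inferInstanceAs (Smooth (pullback.snd G.hom (gk V)))
  have : IsReduced Gk.left := HomFlat.isReduced_of_smooth Gk.hom
  have : QuasiCompact N.hom := by rw [← Over.w i]; infer_instance
  have : LocallyOfFiniteType N.hom := by rw [← Over.w i]; infer_instance
  have : IsPreimmersion (gK V K) := IsPreimmersion.of_isLocalization (nonZeroDivisors V)
  have : IsClosedImmersion (gk V) := IsClosedImmersion.spec_of_surjective _ IsLocalRing.residue_surjective
  let pK : GK.left ⟶ G.left := pullback.fst G.hom (gK V K)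
  let pk : Gk.left ⟶ G.left := pullback.fst G.hom (gk V)
  have hpK : Topology.IsEmbedding pK :=
    (inferInstance : IsPreimmersion (pullback.fst G.hom (gK V K))).base_embedding
  have hpk : Topology.IsClosedEmbedding pk :=
    (inferInstance : IsClosedImmersion (pullback.fst G.hom (gk V))).base_closed
  have hpKhom : ∀ x, G.hom (pK x) = SubtrLib.gen V := fun x => by
    rw [← Scheme.Hom.comp_apply, pullback.condition, Scheme.Hom.comp_apply, gK_apply]
  have hpkhom : ∀ x, G.hom (pk x) = IsLocalRing.closedPoint V := fun x => by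
    rw [← Scheme.Hom.comp_apply, pullback.condition, Scheme.Hom.comp_apply, gk_apply]
  let C : Closeds G.left := ⟨closure (pK '' Set.range i.left), isClosed_closure⟩
  have hNC : ∀ h : N.left, pK (i.left h) ∈ (C : Set G.left) := fun h => subset_closure ⟨_, ⟨h, rfl⟩, rfl⟩
  have hCN : ∀ x : GK.left, pK x ∈ (C : Set G.left) → x ∈ Set.range i.left := fun x hx => by
    have h1 : x ∈ closure (Set.range i.left) := by
      rw [hpK.isInducing.closure_eq_preimage_closure_image]; exact hx
    rwa [i.left.isClosedEmbedding.isClosed_range.closure_eq] at h1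
  let Z : Over (Spec (CommRingCat.of V)) :=
    Over.mk ((Scheme.IdealSheafData.vanishingIdeal C).subschemeι ≫ G.hom)
  let zι' : Z ⟶ G := Over.homMk (Scheme.IdealSheafData.vanishingIdeal C).subschemeι rfl
  have hzr : Set.range zι'.left = (C : Set G.left) := RedSub.range_vanishingIdeal_subschemeι C
  have : IsClosedImmersion zι'.left :=
    inferInstanceAs (IsClosedImmersion (Scheme.IdealSheafData.vanishingIdeal C).subschemeι)
  have : IsReduced Z.left := RedSub.isReduced_vanishingIdeal C
  have : LocallyOfFiniteType Z.hom := by rw [← Over.w zι']; infer_instance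
  have : Flat Z.hom := by
    refine SubtrLib.flat_of_generic _ fun U hU => ?_
    obtain ⟨z, hz⟩ : ∃ z, z ∈ U := by
      by_contra hne
      exact hU (bot_unique fun x hx => hne ⟨x, hx⟩)
    obtain ⟨W, hW, hWU⟩ := zι'.left.isClosedEmbedding.isInducing.isOpen_iff.1 U.2
    have hzW : zι'.left z ∈ W := by rw [← Set.mem_preimage, hWU]; exact hz
    obtain ⟨y, hyW, hy⟩ := mem_closure_iff.1 (hzr.le ⟨z, rfl⟩) W hW hzW
    obtain ⟨z₀, hz₀⟩ : y ∈ Set.range zι'.left := by rw [hzr]; exact subset_closure hy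
    refine ⟨z₀, ?_, ?_⟩
    · exact (Set.ext_iff.1 hWU z₀).1 (by rw [Set.mem_preimage, hz₀]; exact hyW)
    · obtain ⟨x, -, rfl⟩ := hy
      rw [← Over.w zι', Scheme.Hom.comp_apply, hz₀, hpKhom]
  -- points over the generic point
  let PK := (Over.map (gK V K)).obj (𝟙_ (Over (Spec (CommRingCat.of K))))
  let EK : Pt GK →* (PK ⟶ G) := (Solv19.ptsEquiv G (gK V K)).symm.toMonoidHom
  let FK : Pt N →* (PK ⟶ G) := EK.comp
    { toFun := fun x => x ≫ i, map_one' := MonObj.one_comp i, map_mul' := fun a b => MonObj.mul_comp a b i }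
  have hFK : ∀ x, (FK x).left (IsLocalRing.closedPoint K) = pK (i.left (cpt x)) := fun x => by
    show ((Solv19.ptsEquiv G (gK V K)).symm (x ≫ i)).left _ = _
    rw [ptsEquiv_symm_apply, cpt, Over.comp_left, Scheme.Hom.comp_apply]
    rfl
  have hEKs : ∀ φ : PK ⟶ G, ∃ y, EK y = φ := fun φ => ⟨_, MulEquiv.symm_apply_apply (Solv19.ptsEquiv G (gK V K)) φ⟩
  have hK1 : ∀ z : PK ⟶ Z, ∃ x, FK x = z ≫ zι' := fun z => by
    let y : Pt GK := Solv19.ptsEquiv G (gK V K) (z ≫ zι')
    have hy : cpt y ∈ Set.range i.left := hCN _ (by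
      have := ptsEquiv_symm_apply (gK V K) y
      rw [show (Solv19.ptsEquiv G (gK V K)).symm y = z ≫ zι' from MulEquiv.symm_apply_apply _ _] at this
      show pullback.fst G.hom (gK V K) (cpt y) ∈ _
      rw [← this, ← hzr, Over.comp_left, Scheme.Hom.comp_apply]
      exact ⟨_, rfl⟩)
    have hsub : Set.range y.left ⊆ Set.range i.left := by
      rintro _ ⟨t, rfl⟩
      rwa [Subsingleton.elim (α := PrimeSpectrum K) t (IsLocalRing.closedPoint K)]
    have : IsReduced (𝟙_ (Over (Spec (CommRingCat.of K)))).left := inferInstanceAs (IsReduced (Spec _))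
    obtain ⟨l, hl⟩ := RedSub.exists_lift_closed i.left y.left hsub
    let x : Pt N := Over.homMk l (by rw [← Over.w i, reassoc_of% hl, Over.w])
    refine ⟨x, ?_⟩
    show (Solv19.ptsEquiv G (gK V K)).symm (x ≫ i) = _
    rw [show x ≫ i = y from Over.OverMorphism.ext hl]
    exact MulEquiv.symm_apply_apply _ _
  have hKval : ∀ {T : Over (Spec (CommRingCat.of V))} (φ : PK ⟶ T) (w : T ⟶ G),
      w.left (φ.left (IsLocalRing.closedPoint K)) = (φ ≫ w).left (IsLocalRing.closedPoint K) := fun φ w => rfl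
  have hmain : ∀ {T : Over (Spec (CommRingCat.of V))} [Flat T.hom] [LocallyOfFiniteType T.hom] (w : T ⟶ G),
      (∀ φ : PK ⟶ T, ∃ x, φ ≫ w = FK x) → ∀ t, w.left t ∈ (C : Set G.left) := by
    intro T _ _ w hw t
    have huniv := eq_univ_of_points (K := K) (C := w.left ⁻¹' (C : Set G.left)) (C.isClosed.preimage w.left.continuous)
      (fun φ => by
        obtain ⟨x, hx⟩ := hw φ
        rw [Set.mem_preimage, hKval, hx, hFK]
        exact hNC _)
    exact huniv.ge (Set.mem_univ t)
  -- the special fibre of the closure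
  let C₀ : Closeds Gk.left := ⟨pk ⁻¹' (C : Set G.left), C.isClosed.preimage pk.continuous⟩
  let Pk := (Over.map (gk V)).obj (𝟙_ (Over (Spec (CommRingCat.of (ResidueField V)))))
  let Ek : Pt Gk →* (Pk ⟶ G) := (Solv19.ptsEquiv G (gk V)).symm.toMonoidHom
  have hEk : ∀ x, (Ek x).left (IsLocalRing.closedPoint _) = pk (cpt x) := ptsEquiv_symm_apply (gk V)
  have hredk : IsReduced Pk.left := inferInstanceAs (IsReduced (Spec _))
  have hliftk : ∀ x : Pt Gk, cpt x ∈ (C₀ : Set Gk.left) → ∃ z : Pk ⟶ Z, Ek x = z ≫ zι' := fun x hx => by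
    have hsub : Set.range (Ek x).left ⊆ Set.range zι'.left := by
      rintro _ ⟨t, rfl⟩
      rw [hzr, Subsingleton.elim (α := PrimeSpectrum (ResidueField V)) t (IsLocalRing.closedPoint _), hEk]
      exact hx
    obtain ⟨l, hl⟩ := RedSub.exists_lift_closed zι'.left (Ek x).left hsub
    exact ⟨Over.homMk l (by rw [← Over.w zι', reassoc_of% hl, Over.w]), (Over.OverMorphism.ext hl).symm⟩
  have hval : ∀ {T : Over (Spec (CommRingCat.of V))} (φ : Pk ⟶ T) (w : T ⟶ G) (x : Pt Gk),
      Ek x = φ ≫ w → (∀ t, w.left t ∈ (C : Set G.left)) → cpt x ∈ (C₀ : Set Gk.left) := by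
    intro T φ w x hx hw
    show pk (cpt x) ∈ (C : Set G.left)
    rw [← hEk, hx, Over.comp_left, Scheme.Hom.comp_apply]
    exact hw _
  have : Flat (Z ⊗ Z).hom := inferInstanceAs (Flat (pullback.fst Z.hom Z.hom ≫ Z.hom))
  have : LocallyOfFiniteType (Z ⊗ Z).hom :=
    inferInstanceAs (LocallyOfFiniteType (pullback.fst Z.hom Z.hom ≫ Z.hom))
  have : Flat (G ⊗ Z).hom := inferInstanceAs (Flat (pullback.fst G.hom Z.hom ≫ G.hom))
  have : LocallyOfFiniteType (G ⊗ Z).hom :=
    inferInstanceAs (LocallyOfFiniteType (pullback.fst G.hom Z.hom ≫ G.hom))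
  have : Flat (G ⊗ G).hom := inferInstanceAs (Flat (pullback.fst G.hom G.hom ≫ G.hom))
  have : LocallyOfFiniteType (G ⊗ G).hom :=
    inferInstanceAs (LocallyOfFiniteType (pullback.fst G.hom G.hom ≫ G.hom))
  have hone : cpt (1 : Pt Gk) ∈ (C₀ : Set Gk.left) := by
    show pk (cpt 1) ∈ (C : Set G.left)
    have h1 : η[G].left (SubtrLib.gen V) ∈ (C : Set G.left) := by
      have h := hNC (cpt (1 : Pt N))
      rw [← hFK, map_one, Hom.one_def, Over.comp_left, Scheme.Hom.comp_apply] at h
      rwa [show (toUnit PK).left (IsLocalRing.closedPoint K) = SubtrLib.gen V from by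
        rw [← gK_apply (K := K) (IsLocalRing.closedPoint K)]
        exact congrArg (fun m : PK.left ⟶ _ => m (IsLocalRing.closedPoint K))
          ((Category.comp_id _).symm.trans (Over.w (toUnit PK)))] at h
    rw [← hEk, map_one, Hom.one_def, Over.comp_left, Scheme.Hom.comp_apply]
    exact ((SubtrLib.gen_specializes _).map η[G].left.continuous).mem_closed C.isClosed h1
  have hstab : ∀ x y : Pt Gk, cpt x ∈ (C₀ : Set Gk.left) → cpt y ∈ (C₀ : Set Gk.left) →
      cpt (x * y⁻¹) ∈ (C₀ : Set Gk.left) := by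
    intro x y hx hy
    obtain ⟨z₁, hz₁⟩ := hliftk x hx
    obtain ⟨z₂, hz₂⟩ := hliftk y hy
    refine hval (lift z₁ z₂) ((fst Z Z ≫ zι') * (snd Z Z ≫ zι')⁻¹) _ ?_ (hmain _ fun φ => ?_)
    · rw [map_mul, map_inv, hz₁, hz₂, MonObj.comp_mul, GrpObj.comp_inv, lift_fst_assoc, lift_snd_assoc]
    · obtain ⟨a, ha⟩ := hK1 (φ ≫ fst _ _)
      obtain ⟨b, hb⟩ := hK1 (φ ≫ snd _ _)
      exact ⟨a * b⁻¹, by rw [map_mul, map_inv, ha, hb, MonObj.comp_mul, GrpObj.comp_inv, Category.assoc, Category.assoc]⟩
  have hconj : ∀ g x : Pt Gk, cpt x ∈ (C₀ : Set Gk.left) → cpt (g * x * g⁻¹) ∈ (C₀ : Set Gk.left) := by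
    intro g x hx
    obtain ⟨z, hz⟩ := hliftk x hx
    refine hval (lift (Ek g) z) (fst G Z * (snd G Z ≫ zι') * (fst G Z)⁻¹) _ ?_ (hmain _ fun φ => ?_)
    · rw [map_mul, map_mul, map_inv, hz, MonObj.comp_mul, MonObj.comp_mul, GrpObj.comp_inv, lift_fst, lift_snd_assoc]
    · obtain ⟨y, hy⟩ := hEKs (φ ≫ fst _ _)
      obtain ⟨a, ha⟩ := hK1 (φ ≫ snd _ _)
      obtain ⟨a', ha'⟩ := hnor _ y a
      refine ⟨a', ?_⟩
      show _ = EK (a' ≫ i)
      rw [← ha', map_mul, map_mul, map_inv, hy, show EK (a ≫ i) = FK a from rfl, ha, MonObj.comp_mul,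
        MonObj.comp_mul, GrpObj.comp_inv, Category.assoc]
  have hcomm : ∀ g h : Pt Gk, cpt (g * h * g⁻¹ * h⁻¹) ∈ (C₀ : Set Gk.left) := by
    intro g h
    refine hval (lift (Ek g) (Ek h)) (fst G G * snd G G * (fst G G)⁻¹ * (snd G G)⁻¹) _ ?_ (hmain _ fun φ => ?_)
    · simp only [map_mul, map_inv, MonObj.comp_mul, GrpObj.comp_inv, lift_fst, lift_snd]
    · obtain ⟨y, hy⟩ := hEKs (φ ≫ fst _ _)
      obtain ⟨y', hy'⟩ := hEKs (φ ≫ snd _ _)
      obtain ⟨m, hm⟩ := hcom _ y y'
      refine ⟨m, ?_⟩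
      show _ = EK (m ≫ i)
      rw [← hm]
      simp only [map_mul, map_inv, hy, hy', MonObj.comp_mul, GrpObj.comp_inv]
  -- the reduced subgroup
  let Q := Component.redSub Gk C₀
  let qι : Q ⟶ Gk := Over.homMk (Scheme.IdealSheafData.vanishingIdeal C₀).subschemeι rfl
  have hqr : Set.range qι.left = (C₀ : Set Gk.left) := RedSub.range_vanishingIdeal_subschemeι C₀
  have : IsClosedImmersion qι.left :=
    inferInstanceAs (IsClosedImmersion (Scheme.IdealSheafData.vanishingIdeal C₀).subschemeι)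
  have : Mono qι := Over.mono_of_mono_left _
  have : IsReduced Q.left := RedSub.isReduced_vanishingIdeal C₀
  have : LocallyOfFiniteType Q.hom := by rw [← Over.w qι]; infer_instance
  have : IsReduced (Q ⊗ Q).left :=
    RatDense.isReduced_pullback Q.hom (GrpAff.dense_ratPoints Q) Q.hom
  have : IsReduced (Gk ⊗ Q).left :=
    RatDense.isReduced_pullback Gk.hom (GrpAff.dense_ratPoints Gk) Q.hom
  have : IsReduced (Gk ⊗ Gk).left :=
    RatDense.isReduced_pullback Gk.hom (GrpAff.dense_ratPoints Gk) Gk.hom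
  have : LocallyOfFiniteType (Q ⊗ Q).hom := inferInstanceAs (LocallyOfFiniteType (pullback.fst Q.hom Q.hom ≫ Q.hom))
  have : LocallyOfFiniteType (Gk ⊗ Q).hom := inferInstanceAs (LocallyOfFiniteType (pullback.fst Gk.hom Q.hom ≫ Gk.hom))
  have : LocallyOfFiniteType (Gk ⊗ Gk).hom :=
    inferInstanceAs (LocallyOfFiniteType (pullback.fst Gk.hom Gk.hom ≫ Gk.hom))
  have : IsReduced (𝟙_ (Over (Spec (CommRingCat.of (ResidueField V))))).left := inferInstanceAs (IsReduced (Spec _))
  have : LocallyOfFiniteType (𝟙_ (Over (Spec (CommRingCat.of (ResidueField V))))).hom :=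
    inferInstanceAs (LocallyOfFiniteType (𝟙 _))
  have hliftQ : ∀ {T : Over (Spec (CommRingCat.of (ResidueField V)))} [IsReduced T.left] [LocallyOfFiniteType T.hom]
      (f : T ⟶ Gk), (∀ p : Pt T, cpt (p ≫ f) ∈ (C₀ : Set Gk.left)) → ∃ g : T ⟶ Q, g ≫ qι = f := by
    intro T _ _ f hf
    have hsub : Set.range f.left ⊆ Set.range qι.left := by
      rintro _ ⟨t, rfl⟩
      rw [hqr]
      by_contra ht
      obtain ⟨p, hp⟩ := exists_pt_mem (G := T) (U := f.left ⁻¹' (C₀ : Set Gk.left)ᶜ)
        ((C₀.isClosed.isOpen_compl).preimage f.left.continuous).isLocallyClosed ⟨t, ht⟩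
      exact hp (hf p)
    obtain ⟨g, hg⟩ := RedSub.exists_lift_closed qι.left f.left hsub
    exact ⟨Over.homMk g (by rw [← Over.w qι, reassoc_of% hg, Over.w]), Over.OverMorphism.ext hg⟩
  have hptQ : ∀ p : Pt Q, cpt (p ≫ qι) ∈ (C₀ : Set Gk.left) := fun p =>
    hqr.le ⟨cpt p, by rw [cpt, cpt, Over.comp_left, Scheme.Hom.comp_apply]⟩
  have hinvQ : ∀ p : Pt Q, cpt (p ≫ qι)⁻¹ ∈ (C₀ : Set Gk.left) := fun p => by
    have := hstab 1 (p ≫ qι) hone (hptQ p)
    rwa [_root_.one_mul] at this
  obtain ⟨gQ, hqm⟩ := SubgroupObj.exists_grpObj qι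
    (hliftQ _ (fun p => by
      have h := hstab ((p ≫ fst Q Q) ≫ qι) ((p ≫ snd Q Q) ≫ qι)⁻¹ (hptQ _) (hinvQ _)
      rw [_root_.inv_inv] at h
      rwa [MonObj.mul_eq_mul, MonObj.comp_mul, tensorHom_fst, tensorHom_snd, MonObj.comp_mul, ← Category.assoc,
        ← Category.assoc]))
    (hliftQ _ (fun p => by
      rwa [show p ≫ η[Gk] = (1 : Pt Gk) by rw [Hom.one_def, toUnit_unique p (toUnit _)]]))
    (hliftQ _ (fun p => by
      rw [GrpObj.inv_eq_inv, GrpObj.comp_inv, Category.comp_id, GrpObj.comp_inv]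
      exact hinvQ p))
  refine ⟨Q, gQ, qι, hqm, inferInstance, ?_, ?_, ?_⟩
  · obtain ⟨c, hc⟩ := hliftQ (fst Gk Q * (snd Gk Q ≫ qι) * (fst Gk Q)⁻¹) (fun p => by
      rw [MonObj.comp_mul, MonObj.comp_mul, GrpObj.comp_inv]
      exact hconj _ _ (by rw [← Category.assoc]; exact hptQ _))
    intro T g x
    exact ⟨lift g x ≫ c, by
      rw [Category.assoc, hc, MonObj.comp_mul, MonObj.comp_mul, GrpObj.comp_inv, lift_fst, lift_snd_assoc]⟩
  · obtain ⟨c, hc⟩ := hliftQ (fst Gk Gk * snd Gk Gk * (fst Gk Gk)⁻¹ * (snd Gk Gk)⁻¹) (fun p => by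
      simp only [MonObj.comp_mul, GrpObj.comp_inv]
      exact hcomm _ _)
    intro T g h
    exact ⟨lift g h ≫ c, by
      rw [Category.assoc, hc, MonObj.comp_mul, MonObj.comp_mul, MonObj.comp_mul, GrpObj.comp_inv, GrpObj.comp_inv]
      erw [lift_fst, lift_snd]⟩
  · -- dimension
    refine le_trans ?_ hdim
    have : IsLocallyNoetherian N.left := LocallyOfFiniteType.isLocallyNoetherian N.hom
    have : CompactSpace N.left := (quasiCompact_iff_compactSpace N.hom).1 inferInstance
    have : AlgebraicGeometry.IsNoetherian N.left := ⟨⟩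
    obtain ⟨F, hF, hFs⟩ := exists_finite_generic N.left
    have hCF : ∀ z ∈ (C : Set G.left), ∃ y ∈ F, pK (i.left y) ⤳ z := by
      have hcl : IsClosed (⋃ y ∈ F, closure {pK (i.left y)}) := hF.isClosed_biUnion fun y _ => isClosed_closure
      intro z hz
      have hz' := closure_minimal (t := ⋃ y ∈ F, closure {pK (i.left y)}) (by
        rintro _ ⟨_, ⟨h, rfl⟩, rfl⟩
        obtain ⟨y, hy, hyh⟩ := hFs h
        exact Set.mem_biUnion hy (specializes_iff_mem_closure.1 ((hyh.map i.left.continuous).map pK.continuous)))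
        hcl hz
      obtain ⟨y, hy, hyz⟩ := Set.mem_iUnion₂.1 hz'
      exact ⟨y, hy, specializes_iff_mem_closure.2 hyz⟩
    let _ := specializationOrder Q.left
    let _ := specializationOrder N.left
    rw [DimLift.topDim_eq_krullDim_points, DimLift.topDim_eq_krullDim_points]
    refine iSup_le fun l => ?_
    let m : Q.left → G.left := fun q => pk (qι.left q)
    have hmC : ∀ q, m q ∈ (C : Set G.left) := fun q => hqr.le ⟨q, rfl⟩
    obtain ⟨y, -, hy⟩ := hCF _ (hmC l.last)
    have hgen : G.hom (pK (i.left y)) = genericPoint (Spec (CommRingCat.of V)) := by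
      rw [hpKhom, genericPoint_eq_bot_of_affine]; rfl
    have hemb : Topology.IsInducing m := hpk.isInducing.comp qι.left.isClosedEmbedding.isInducing
    let l' : LTSeries {z : G.left | G.hom z = G.hom (m l.last) ∧ m l.last ⤳ z} :=
      LTSeries.mk l.length (fun j => ⟨m (l j), (hpkhom _).trans (hpkhom _).symm,
        Specializes.map (show l.last ⤳ l j from l.monotone (Fin.le_last j)) hemb.continuous⟩) (fun a b hab => by
        refine lt_iff_le_not_ge.2 ⟨(show l b ⤳ l a from (l.strictMono hab).le).map hemb.continuous, fun hba => ?_⟩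
        exact (l.strictMono hab).not_ge (hemb.specializes_iff.1 (Scheme.le_iff_specializes.1 hba)))
    refine le_trans (le_trans (show (l.length : WithBot ℕ∞) ≤ _ from Order.LTSeries.length_le_krullDim l')
      (SecDim.krullDim_le_generic G.hom hgen hy)) ?_
    have hlift : ∀ z : {z : G.left | G.hom z = G.hom (pK (i.left y)) ∧ pK (i.left y) ⤳ z},
        ∃ h : N.left, pK (i.left h) = z.1 := fun z => by
      obtain ⟨x, hx⟩ : z.1 ∈ Set.range pK := by
        show z.1 ∈ Set.range (pullback.fst G.hom (gK V K))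
        rw [Scheme.Pullback.range_fst]
        exact ⟨IsLocalRing.closedPoint _, by rw [gK_apply, z.2.1, hpKhom]⟩
      obtain ⟨h, hh⟩ := hCN x (by rw [hx]; exact z.2.2.mem_closed C.isClosed (hNC y))
      exact ⟨h, by rw [hh, hx]⟩
    choose f hf using hlift
    have hind : Topology.IsInducing (fun h => pK (i.left h)) :=
      hpK.isInducing.comp i.left.isClosedEmbedding.isInducing
    refine Order.krullDim_le_of_strictMono f fun a b hab => ?_
    refine lt_of_le_not_ge ?_ fun hba => hab.not_ge ?_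
    · show f b ⤳ f a
      rw [← hind.specializes_iff]; show pK _ ⤳ pK _; rw [hf, hf]; exact Scheme.le_iff_specializes.1 hab.le
    · refine Scheme.le_iff_specializes.2 ?_
      rw [← hf a, ← hf b]; exact (show f a ⤳ f b from hba).map hind.continuous

end Valuation

/-- Normal subgroups containing the commutators descend along extensions of algebraically closed fields. -/
theorem hasDerived_descend {k F : Type u} [Field k] [IsAlgClosed k] [Field F] [IsAlgClosed F] [Algebra k F]
    (G : Over (Spec (CommRingCat.of k))) [GrpObj G] [Smooth G.hom] [QuasiCompact G.hom] {n : WithBot ℕ∞}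
    (h : HasDerived (Red.bc (Spec.map (CommRingCat.ofHom (algebraMap k F))) G) n) : HasDerived G n := by
  obtain ⟨A, hA, hbij⟩ := exists_place (F := F) k
  have := isAlgClosed_residueField A
  let cA : k →+* A := (algebraMap k F).codRestrict A.toSubring hA
  let sA : Spec (CommRingCat.of A) ⟶ Spec (CommRingCat.of k) := Spec.map (CommRingCat.ofHom cA)
  let GA := Red.bc sA G
  have : Smooth GA.hom := inferInstanceAs (Smooth (pullback.snd G.hom sA))
  have : QuasiCompact GA.hom := inferInstanceAs (QuasiCompact (pullback.snd G.hom sA))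
  obtain ⟨e₁⟩ := Borel50.Lin.TorusSch.bc_comp (gK A F) sA (Spec.map (CommRingCat.ofHom (algebraMap k F)))
    (by rw [← Spec.map_comp]; rfl) G
  have h1 := hasDerived_special (h.of_iso e₁.symm)
  let ε : k ≃+* ResidueField A := RingEquiv.ofBijective _ hbij
  let se : Spec (CommRingCat.of k) ⟶ Spec (CommRingCat.of (ResidueField A)) :=
    Spec.map (CommRingCat.ofHom ε.symm.toRingHom)
  have : IsIso (CommRingCat.ofHom ε.symm.toRingHom) := ε.symm.toCommRingCatIso.isIso_hom
  have : IsIso se := inferInstanceAs (IsIso (Spec.map _))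
  have hcomp : se ≫ gk A ≫ sA = 𝟙 _ := by
    rw [← Spec.map_comp, ← Spec.map_comp, ← Spec.map_id]
    congr 1
    ext c
    exact ε.symm_apply_apply c
  obtain ⟨e₂⟩ := Borel50.Lin.TorusSch.bc_comp (gk A) sA (gk A ≫ sA) rfl G
  obtain ⟨e₃⟩ := Borel50.Lin.TorusSch.bc_comp se (gk A ≫ sA) (𝟙 _) hcomp.symm G
  obtain ⟨e₄⟩ := DiagRig.TorusQuot.exists_bcId G
  exact (h1.bc se).of_iso ((Over.pullback se).mapGrp.mapIso e₂ ≪≫ e₃ ≪≫ e₄)

/-- Normal subgroups containing the commutators of geometric fibres specialise. -/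
theorem hasDerived_specialise {S : Scheme.{u}} (G : Over S) [GrpObj G] [Smooth G.hom] [QuasiCompact G.hom]
    {s t : S} (hst : s ⤳ t) {n : WithBot ℕ∞} (h : HasDerived (Red.geomFibre s G) n) :
    HasDerived (Red.geomFibre t G) n := by
  let K := AlgebraicClosure (S.residueField s)
  let φ : S.presheaf.stalk t ⟶ CommRingCat.of K :=
    (S.presheaf.stalkSpecializes hst ≫ S.residue s) ≫ CommRingCat.ofHom (algebraMap (S.residueField s) K)
  obtain ⟨A, hA, hAloc⟩ := exists_factor_valuationRing φ.hom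
  have := isAlgClosed_residueField A
  let ψ : S.presheaf.stalk t ⟶ CommRingCat.of A := CommRingCat.ofHom (φ.hom.codRestrict _ hA)
  let gA : Spec (CommRingCat.of A) ⟶ S := Spec.map ψ ≫ S.fromSpecStalk t
  have hgK : gK A K ≫ gA = Red.geomPt s := by
    show _ = Spec.map _ ≫ S.fromSpecResidueField s
    rw [Scheme.fromSpecResidueField, ← Scheme.SpecMap_stalkSpecializes_fromSpecStalk hst,
      ← Spec.map_comp_assoc, ← Spec.map_comp_assoc, ← Spec.map_comp_assoc]
    rfl
  let GA := Red.bc gA G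
  have : Smooth GA.hom := inferInstanceAs (Smooth (pullback.snd G.hom gA))
  have : QuasiCompact GA.hom := inferInstanceAs (QuasiCompact (pullback.snd G.hom gA))
  obtain ⟨e₁⟩ := Borel50.Lin.TorusSch.bc_comp (gK A K) gA (Red.geomPt s) hgK.symm G
  have h1 := hasDerived_special (h.of_iso e₁.symm)
  haveI : IsLocalHom ψ.hom := hAloc
  let ρ : S.residueField t →+* ResidueField A := IsLocalRing.ResidueField.map ψ.hom
  letI : Algebra (S.residueField t) (ResidueField A) := ρ.toAlgebra
  let k := AlgebraicClosure (S.residueField t)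
  let χ : k →ₐ[S.residueField t] ResidueField A := IsAlgClosed.lift
  letI : Algebra k (ResidueField A) := χ.toRingHom.toAlgebra
  let sχ := Spec.map (CommRingCat.ofHom (algebraMap k (ResidueField A)))
  have hgk : gk A ≫ gA = sχ ≫ Red.geomPt t := by
    show _ = sχ ≫ Spec.map _ ≫ S.fromSpecResidueField t
    rw [Scheme.fromSpecResidueField, ← Spec.map_comp_assoc, ← Spec.map_comp_assoc, ← Spec.map_comp_assoc]
    congr 2
    ext a
    exact (χ.commutes (IsLocalRing.residue _ a)).symm
  let Gt := Red.geomFibre t G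
  have : Smooth Gt.hom := inferInstanceAs (Smooth (pullback.snd G.hom (Red.geomPt t)))
  have : QuasiCompact Gt.hom := inferInstanceAs (QuasiCompact (pullback.snd G.hom (Red.geomPt t)))
  obtain ⟨e₂⟩ := Borel50.Lin.TorusSch.bc_comp (gk A) gA (gk A ≫ gA) rfl G
  obtain ⟨e₃⟩ := Borel50.Lin.TorusSch.bc_comp sχ (Red.geomPt t) (gk A ≫ gA) hgk G
  exact hasDerived_descend (k := k) (F := ResidueField A) Gt (h1.of_iso (e₂ ≪≫ e₃.symm))

end Groth.Agent.GrpScheme.Special
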