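import Groth.Agent.GrpScheme.Special.FlatWords
import Groth.Agent.S19964
import Groth.Agent.S3022
import Groth.Agent.RegLoc.Basic

/-!
# Subgroups specialise along regular local rings

Over a discrete valuation ring the schematic closure of a subgroup of the generic fibre is flat, so its special fibre is
a subgroup of the same dimension, inheriting normality, commutativity, nilpotency and solvability; a regular local
ring is reached by a chain of discrete valuation rings.
-/

set_option autoImplicit false
set_option backward.isDefEq.respectTransparency false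
set_option synthInstance.maxHeartbeats 400000
set_option maxHeartbeats 1600000

universe u

open CategoryTheory MonoidalCategory CartesianMonoidalCategory MonObj GrpObj AlgebraicGeometry Limits IsLocalRing

noncomputable section

namespace Groth.Agent.GrpScheme.Special

attribute [-instance] Groth.Agent.GrpArtin.grpObjBC

/-- The properties of subgroups considered. -/
inductive SubKind
  | any | normal | comm | nilp | solv

/-- A subgroup has the given property. -/
def SubKind.Holds {S : Scheme.{u}} {H G : Over S} [GrpObj H] [GrpObj G] : SubKind → (H ⟶ G) → Prop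
  | .any, _ => True
  | .normal, i => AlgGrp.IsNormalHom i
  | .comm, _ => IsCommMonObj H
  | .nilp, _ => AGF.IsNilpotentGrp H
  | .solv, _ => Red.IsSolvableGrp H

/-- Whether specialising the property requires separatedness. -/
def SubKind.NeedsSep : SubKind → Prop
  | .any | .normal => False
  | _ => True

section Maps

variable {S : Scheme.{u}} {H G : Over S} [GrpObj H] [GrpObj G]

lemma SubKind.Holds.comp_iso {G' : Over S} [GrpObj G'] {c : SubKind} {i : H ⟶ G} (e : Grp.mk G ≅ Grp.mk G')
    (h : c.Holds i) : c.Holds (i ≫ e.hom.hom.hom) := by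
  cases c with
  | normal =>
    intro T g x
    let f' : G' ⟶ G := e.inv.hom.hom
    have hff : f' ≫ e.hom.hom.hom = 𝟙 _ := congrArg (fun q => q.hom.hom) e.inv_hom_id
    have : IsMonHom e.hom.hom.hom := inferInstance
    have hback : ∀ (a : T ⟶ G'), (a ≫ f') ≫ e.hom.hom.hom = a := fun a => by rw [Category.assoc, hff, Category.comp_id]
    obtain ⟨x', hx'⟩ := h T (g ≫ f') x
    refine ⟨x', ?_⟩
    calc g * (x ≫ i ≫ e.hom.hom.hom) * g⁻¹ = ((g ≫ f') * (x ≫ i) * (g ≫ f')⁻¹) ≫ e.hom.hom.hom := by
          rw [MonObj.mul_comp, MonObj.mul_comp, GrpObj.inv_comp, hback, Category.assoc]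
      _ = x' ≫ i ≫ e.hom.hom.hom := by rw [hx', Category.assoc]
  | _ => exact h

lemma SubKind.Holds.bc {c : SubKind} {i : H ⟶ G} (h : c.Holds i) {S' : Scheme.{u}} (g : S' ⟶ S) :
    c.Holds ((Over.pullback g).map i : Red.bc g H ⟶ Red.bc g G) := by
  cases c with
  | any => trivial
  | normal =>
    intro T a x
    obtain ⟨x', hx'⟩ := h _ ((bcPts g G T).symm a) ((bcPts g H T).symm x)
    have hnat : ∀ (y : (Over.map g).obj T ⟶ H), bcPts g G T (y ≫ i) = bcPts g H T y ≫ (Over.pullback g).map i :=
      fun y => (Over.mapPullbackAdj g).homEquiv_naturality_right _ _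
    refine ⟨bcPts g H T x', ?_⟩
    have h' := congrArg (bcPts g G T) hx'
    rwa [map_mul, map_mul, map_inv, MulEquiv.apply_symm_apply, hnat, hnat, MulEquiv.apply_symm_apply] at h'
  | comm =>
    have : IsCommMonObj H := h
    exact inferInstanceAs (IsCommMonObj (Red.bc g H))
  | nilp =>
    obtain ⟨n, hn⟩ := h
    exact ⟨n, fun X => Subgroup.lowerCentralSeries_eq_bot_iff_upperCentralSeries_eq_top.mp (map_lcs_bot (bcPts g H X) n
      (Subgroup.lowerCentralSeries_eq_bot_iff_upperCentralSeries_eq_top.mpr (hn _)))⟩
  | solv =>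
    obtain ⟨n, hn⟩ := h
    exact ⟨n, fun X => map_derivedSeries_bot (bcPts g H X) n (hn _)⟩

/-- Post-composition with an isomorphism of groups. -/
def ptsIso {H' : Over S} [GrpObj H'] (e : H ⟶ H') [IsMonHom e] [IsIso e] (X : Over S) : (X ⟶ H) ≃* (X ⟶ H') where
  toFun a := a ≫ e
  invFun a := a ≫ inv e
  left_inv a := by simp
  right_inv a := by simp
  map_mul' a b := MonObj.mul_comp a b e

lemma SubKind.Holds.of_iso {H' : Over S} [GrpObj H'] (e : H ⟶ H') [IsMonHom e] [IsIso e] {c : SubKind} {i : H ⟶ G}
    {i' : H' ⟶ G} (he : e ≫ i' = i) (h : c.Holds i) : c.Holds i' := by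
  cases c with
  | any => trivial
  | normal =>
    intro T g x
    obtain ⟨x', hx'⟩ := h T g (x ≫ inv e)
    refine ⟨x' ≫ e, ?_⟩
    rw [← he] at hx'
    simpa [Category.assoc] using hx'
  | comm =>
    have : IsCommMonObj H := h
    refine ⟨?_⟩
    rw [← cancel_epi ((e ⊗ₘ e) : H ⊗ H ⟶ H' ⊗ H'), BraidedCategory.braiding_naturality_assoc,
      ← IsMonHom.mul_hom e, ← Category.assoc, IsCommMonObj.mul_comm]
  | nilp =>
    obtain ⟨n, hn⟩ := h
    exact ⟨n, fun X => Subgroup.lowerCentralSeries_eq_bot_iff_upperCentralSeries_eq_top.mp (map_lcs_bot (ptsIso e X) n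
      (Subgroup.lowerCentralSeries_eq_bot_iff_upperCentralSeries_eq_top.mpr (hn _)))⟩
  | solv =>
    obtain ⟨n, hn⟩ := h
    exact ⟨n, fun X => map_derivedSeries_bot (ptsIso e X) n (hn _)⟩

end Maps

/-- There is a closed subgroup with the given property and dimension. -/
def HasSub (c : SubKind) {k : Type u} [Field k] (G : Over (Spec (CommRingCat.of k))) [GrpObj G] (d : ℕ) : Prop :=
  ∃ (H : Over (Spec (CommRingCat.of k))) (_ : GrpObj H) (i : H ⟶ G),
    IsMonHom i ∧ IsClosedImmersion i.left ∧ c.Holds i ∧ topologicalKrullDim H.left = (d : WithBot ℕ∞)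

lemma HasSub.of_iso {c : SubKind} {k : Type u} [Field k] {G G' : Over (Spec (CommRingCat.of k))} [GrpObj G] [GrpObj G']
    (e : Grp.mk G ≅ Grp.mk G') {d : ℕ} (h : HasSub c G d) : HasSub c G' d := by
  obtain ⟨H, gH, i, hi, hic, hc, hd⟩ := h
  have : IsMonHom e.hom.hom.hom := inferInstance
  have : IsIso e.hom.hom.hom.left := ((Over.forget _).mapIso ((Grp.forget _).mapIso e)).isIso_hom
  exact ⟨H, gH, i ≫ e.hom.hom.hom, inferInstance, by rw [Over.comp_left]; infer_instance, hc.comp_iso e, hd⟩

lemma HasSub.bc {c : SubKind} {k k' : Type u} [Field k] [Field k']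
    (g : Spec (CommRingCat.of k') ⟶ Spec (CommRingCat.of k)) [IsIso g]
    {G : Over (Spec (CommRingCat.of k))} [GrpObj G] {d : ℕ} (h : HasSub c G d) : HasSub c (Red.bc g G) d := by
  obtain ⟨H, gH, i, hi, hic, hc, hd⟩ := h
  refine ⟨Red.bc g H, inferInstance, (Over.pullback g).map i, inferInstance,
    LimGrp.property_map @IsClosedImmersion g i hic, hc.bc g, hd ▸ ?_⟩
  have : IsIso (pullback.fst H.hom g) := inferInstance
  exact (Scheme.homeoOfIso (asIso (pullback.fst H.hom g))).isHomeomorph.topologicalKrullDim_eq

/-- The dimension of the base change to a point is that of the fibre. -/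
lemma dim_bc_pt {S : Scheme.{u}} {F : Type u} [Field F] (g : Spec (CommRingCat.of F) ⟶ S) [IsPreimmersion g]
    (X : Over S) : topologicalKrullDim ↥(pullback X.hom g) =
      topologicalKrullDim ↥(X.hom.base ⁻¹' {g (IsLocalRing.closedPoint F)}) := by
  have he : Topology.IsEmbedding (pullback.fst X.hom g) :=
    (inferInstance : IsPreimmersion (pullback.fst X.hom g)).base_embedding
  have hr : Set.range (pullback.fst X.hom g) = X.hom.base ⁻¹' {g (IsLocalRing.closedPoint F)} := by
    rw [Scheme.Pullback.range_fst]
    congr 1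
    exact Set.ext fun s => ⟨by rintro ⟨t, rfl⟩; exact congrArg g (Subsingleton.elim (α := PrimeSpectrum F) t _),
      fun hs => ⟨_, hs.symm⟩⟩
  exact (he.toHomeomorph.trans (Homeomorph.setCongr hr)).isHomeomorph.topologicalKrullDim_eq

section Dvr

variable {R : Type u} [CommRing R] [IsDomain R] [IsDiscreteValuationRing R]
  (G : Over (Spec (CommRingCat.of R))) [GrpObj G] [Flat G.hom] [LocallyOfFiniteType G.hom] [QuasiCompact G.hom]

/-- Subgroups of the generic fibre specialise along a discrete valuation ring. -/
theorem hasSub_dvr_aux {c : SubKind} (hsep : c.NeedsSep → IsSeparated G.hom) (k : Type u) [Field k] [Algebra R k]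
    (hk : Function.Surjective (algebraMap R k)) {d : ℕ} (h : HasSub c (Red.bc (Neron.genPt R) G) d) :
    HasSub c (Red.bc (Spec.map (CommRingCat.ofHom (algebraMap R k))) G) d := by
  obtain ⟨HK, gHK, i, hi, hic, hc, hd⟩ := h
  obtain ⟨H, gH, j, φ, hj, hjc, hflat, hpb, hfac, -⟩ := S19964.result R G HK i
  let t := Neron.genPt R
  let F := Over.pullback t
  let gk' : Spec (CommRingCat.of k) ⟶ Spec (CommRingCat.of R) := Spec.map (CommRingCat.ofHom (algebraMap R k))
  have : IsClosedImmersion gk' := IsClosedImmersion.spec_of_surjective _ hk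
  have : IsPreimmersion t := IsPreimmersion.of_isLocalization (nonZeroDivisors R)
  have : IsClosedImmersion (F.map j).left := LimGrp.property_map @IsClosedImmersion t j hjc
  have : Mono (F.map j) := Over.mono_of_mono_left _
  let e : HK ⟶ Red.bc t H := Over.homMk (pullback.lift φ HK.hom hpb.w) (pullback.lift_snd _ _ _)
  have he : e ≫ F.map j = i := by
    ext1
    apply pullback.hom_ext
    · rw [Over.comp_left, Category.assoc, show (F.map j).left ≫ pullback.fst G.hom t = pullback.fst H.hom t ≫ j.left from
        pullback.lift_fst _ _ _]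
      exact (pullback.lift_fst_assoc _ _ _ _).trans hfac
    · rw [Over.comp_left, Category.assoc, show (F.map j).left ≫ pullback.snd G.hom t = pullback.snd H.hom t from
        pullback.lift_snd _ _ _]
      exact (pullback.lift_snd _ _ _).trans (Over.w i).symm
  have : IsMonHom e :=
    { one_hom := by rw [← cancel_mono (F.map j), Category.assoc, he, IsMonHom.one_hom i, IsMonHom.one_hom (F.map j)]
      mul_hom := by
        rw [← cancel_mono (F.map j), Category.assoc, he, IsMonHom.mul_hom i, Category.assoc,
          IsMonHom.mul_hom (F.map j), MonoidalCategory.tensorHom_comp_tensorHom_assoc, he] }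
  have : IsIso e := by
    have : IsIso e.left := by
      have : e.left = hpb.isoPullback.hom := by
        apply pullback.hom_ext
        · exact (pullback.lift_fst _ _ _).trans hpb.isoPullback_hom_fst.symm
        · exact (pullback.lift_snd _ _ _).trans hpb.isoPullback_hom_snd.symm
      rw [this]; infer_instance
    have : IsIso ((Over.forget _).map e) := ‹IsIso e.left›
    exact isIso_of_reflects_iso e (Over.forget _)
  have hK : c.Holds (F.map j : Red.bc t H ⟶ Red.bc t G) := hc.of_iso e he
  have : IsDominant t := ⟨(PrimeSpectrum.denseRange_comap_iff_ker_le_nilRadical _).mpr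
        (show RingHom.ker (algebraMap R (FractionRing R)) ≤ nilradical R by
          rw [(RingHom.injective_iff_ker_eq_bot _).mp (IsFractionRing.injective R (FractionRing R))]; exact bot_le)⟩
  have : IsSchemeTheoreticallyDominant t := .of_isDominant t
  have : LocallyOfFiniteType H.hom := by rw [← Over.w j]; infer_instance
  have hs : c.Holds ((Over.pullback gk').map j : Red.bc gk' H ⟶ Red.bc gk' G) := by
    cases c with
    | any => trivial
    | normal =>
      refine SubKind.Holds.bc (c := .normal) (i := j) ?_ gk'
      have : Flat (G ⊗ H).hom := inferInstanceAs (Flat (pullback.fst G.hom H.hom ≫ G.hom))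
      let b : G ⊗ H ⟶ G := fst G H * (snd G H ≫ j) * (fst G H)⁻¹
      let ψ := Functor.homMonoidHom (X := G ⊗ H) (M := G) F
      obtain ⟨c', hc'⟩ := hK _ (F.map (fst G H)) (F.map (snd G H))
      obtain ⟨l, hl⟩ := S19964.exists_lift j.left b.left (pullback.fst (G ⊗ H).hom t)
        (c'.left ≫ pullback.fst H.hom t) (by
          have hb : F.map b = c' ≫ F.map j := by
            rw [← hc', ← F.map_comp]
            show ψ b = ψ (fst G H) * ψ (snd G H ≫ j) * (ψ (fst G H))⁻¹
            rw [map_mul, map_mul, map_inv]
          rw [Category.assoc, ← show (F.map j).left ≫ pullback.fst G.hom t = pullback.fst H.hom t ≫ j.left from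
            pullback.lift_fst _ _ _, ← Category.assoc, ← Over.comp_left, ← hb]
          exact pullback.lift_fst _ _ _)
      let l' : G ⊗ H ⟶ H := Over.homMk l (by rw [← Over.w b, ← hl, Category.assoc, Over.w j])
      have hl' : l' ≫ j = b := Over.OverMorphism.ext hl
      intro T g x
      exact ⟨lift g x ≫ l', by
        rw [Category.assoc, hl', MonObj.comp_mul, MonObj.comp_mul, GrpObj.comp_inv, lift_fst, lift_snd_assoc]⟩
    | comm =>
      have : IsSeparated G.hom := hsep trivial
      have : IsSeparated H.hom := by rw [← Over.w j]; infer_instance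
      have : IsCommMonObj H := GrpScheme.Ext.isCommMonObj_of_baseChange t H hK
      exact inferInstanceAs (IsCommMonObj (Red.bc gk' H))
    | nilp =>
      have : IsSeparated G.hom := hsep trivial
      have : IsSeparated H.hom := by rw [← Over.w j]; infer_instance
      exact isNilpotentGrp_of_bc H t hK gk'
    | solv =>
      have : IsSeparated G.hom := hsep trivial
      have : IsSeparated H.hom := by rw [← Over.w j]; infer_instance
      exact isSolvableGrp_of_bc H t hK gk'
  refine ⟨Red.bc gk' H, inferInstance, (Over.pullback gk').map j, inferInstance,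
    LimGrp.property_map @IsClosedImmersion gk' j hjc, hs, hd ▸ ?_⟩
  have : LocallyOfFinitePresentation H.hom := inferInstance
  have hconst := (S3022.result _ H).apply_eq_of_preconnectedSpace (t (IsLocalRing.closedPoint _))
    (gk' (IsLocalRing.closedPoint k))
  show topologicalKrullDim ↥(pullback H.hom gk') = _
  rw [dim_bc_pt, ← hconst, ← dim_bc_pt]
  have : IsIso e.left := inferInstanceAs (IsIso ((Over.forget _).map e))
  exact (Scheme.homeoOfIso (asIso e.left)).isHomeomorph.topologicalKrullDim_eq.symm

/-- Subgroups of the generic fibre specialise along a discrete valuation ring. -/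
theorem hasSub_dvr {c : SubKind} (hsep : c.NeedsSep → IsSeparated G.hom) (K : Type u) [Field K] [Algebra R K]
    [IsFractionRing R K] (k : Type u) [Field k] [Algebra R k]
    (hk : Function.Surjective (algebraMap R k)) {d : ℕ}
    (h : HasSub c (Red.bc (Spec.map (CommRingCat.ofHom (algebraMap R K))) G) d) :
    HasSub c (Red.bc (Spec.map (CommRingCat.ofHom (algebraMap R k))) G) d := by
  let ε : K ≃ₐ[R] FractionRing R := (FractionRing.algEquiv R K).symm
  let g : Spec (CommRingCat.of (FractionRing R)) ⟶ Spec (CommRingCat.of K) :=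
    Spec.map (CommRingCat.ofHom ε.toRingEquiv.toRingHom)
  have : IsIso (CommRingCat.ofHom ε.toRingEquiv.toRingHom) := ε.toRingEquiv.toCommRingCatIso.isIso_hom
  have : IsIso g := inferInstanceAs (IsIso (Spec.map _))
  obtain ⟨e⟩ := Borel50.Lin.TorusSch.bc_comp g (Spec.map (CommRingCat.ofHom (algebraMap R K))) (Neron.genPt R) (by
    show Spec.map _ = _
    rw [← Spec.map_comp]
    congr 1
    ext x
    exact (ε.commutes x).symm) G
  exact hasSub_dvr_aux G hsep k hk ((h.bc g).of_iso e)

end Dvr

/-- Subgroups of the generic fibre specialise along a regular local ring. -/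
theorem hasSub_regular (n : ℕ) : ∀ (A : Type u) [CommRing A] [IsDomain A] [IsRegularLocalRing A],
    ringKrullDim A = n → ∀ (K : Type u) [Field K] [Algebra A K] [IsFractionRing A K] (k : Type u) [Field k] [Algebra A k],
    Function.Surjective (algebraMap A k) → ∀ (G : Over (Spec (CommRingCat.of A))) [GrpObj G] [Flat G.hom]
    [LocallyOfFiniteType G.hom] [QuasiCompact G.hom] (c : SubKind), (c.NeedsSep → IsSeparated G.hom) → ∀ d : ℕ,
    HasSub c (Red.bc (Spec.map (CommRingCat.ofHom (algebraMap A K))) G) d →
    HasSub c (Red.bc (Spec.map (CommRingCat.ofHom (algebraMap A k))) G) d := by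
  induction n using Nat.strong_induction_on with
  | _ n ih =>
    intro A _ _ _ hn K _ _ _ k _ _ hk G _ _ _ _ c hsep d h
    have hμ := RegLoc.spanFinrank_eq_dim hn
    have hfg := IsNoetherian.noetherian (maximalIdeal A)
    rcases Nat.eq_zero_or_pos n with rfl | hpos
    · rw [Submodule.spanFinrank_eq_zero_iff_eq_bot hfg] at hμ
      have hA : IsField A := isField_iff_maximalIdeal_eq.mpr hμ
      let := hA.toField
      let εK : A ≃+* K := RingEquiv.ofBijective _ ⟨IsFractionRing.injective A K,
        IsFractionRing.surjective_iff_isField.2 hA⟩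
      let εk : A ≃+* k := RingEquiv.ofBijective _ ⟨(algebraMap A k).injective, hk⟩
      let g : Spec (CommRingCat.of k) ⟶ Spec (CommRingCat.of K) :=
        Spec.map (CommRingCat.ofHom (εK.symm.trans εk).toRingHom)
      have : IsIso (CommRingCat.ofHom (εK.symm.trans εk).toRingHom) :=
        (εK.symm.trans εk).toCommRingCatIso.isIso_hom
      have : IsIso g := inferInstanceAs (IsIso (Spec.map _))
      obtain ⟨e⟩ := Borel50.Lin.TorusSch.bc_comp g (Spec.map (CommRingCat.ofHom (algebraMap A K)))
        (Spec.map (CommRingCat.ofHom (algebraMap A k))) (by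
          rw [← Spec.map_comp]
          congr 1
          ext x
          exact (congrArg εk (εK.symm_apply_apply x)).symm) G
      exact (h.bc g).of_iso e
    obtain ⟨x, hx, hx2⟩ : ∃ x ∈ maximalIdeal A, x ∉ maximalIdeal A ^ 2 := by
      by_contra h'
      push Not at h'
      have := RegLoc.eq_maximalIdeal_of_le_sup_sq (J := (⊥ : Ideal A)) bot_le (fun y hy => Submodule.mem_sup_right (h' y hy))
      rw [← this, Submodule.spanFinrank_bot] at hμ
      omega
    obtain ⟨hreg, m, hm, hmn⟩ := RegLoc.isRegularLocalRing_quotient_span_singleton hx hx2 hn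
    let p := Ideal.span {x}
    have := RegLoc.isDomain (A ⧸ p)
    have : p.IsPrime := (Ideal.Quotient.isDomain_iff_prime _).mp inferInstance
    have hx0 : x ≠ 0 := fun h0 => hx2 (h0 ▸ zero_mem _)
    let R := Localization.AtPrime p
    have hle : p.primeCompl ≤ nonZeroDivisors A := p.primeCompl_le_nonZeroDivisors
    have : IsDomain R := IsLocalization.isDomain_localization hle
    have : IsDiscreteValuationRing R := by
      have hR : maximalIdeal R = Ideal.span {algebraMap A R x} := by
        rw [← Localization.AtPrime.map_eq_maximalIdeal, Ideal.map_span, Set.image_singleton]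
      have hnf : ¬ IsField R := fun hf => by
        rw [isField_iff_maximalIdeal_eq, hR, Ideal.span_singleton_eq_bot] at hf
        exact hx0 (IsLocalization.injective R hle (hf.trans (map_zero _).symm))
      refine ((IsDiscreteValuationRing.TFAE R hnf).out 0 4).mpr ?_
      rw [hR]
      exact ⟨⟨_, rfl⟩⟩
    let _ : Algebra R K := (IsLocalization.lift (M := p.primeCompl) (g := algebraMap A K)
      fun s => (IsFractionRing.injective A K |> fun hinj => isUnit_iff_ne_zero.2
        fun h0 => s.2 (by rw [show (s : A) = 0 from hinj (h0.trans (map_zero _).symm)]; exact zero_mem _))).toAlgebra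
    have : IsScalarTower A R K := IsScalarTower.of_algebraMap_eq fun a => (IsLocalization.lift_eq _ a).symm
    have : IsFractionRing R K := IsFractionRing.isFractionRing_of_isDomain_of_isLocalization p.primeCompl R K
    let L := FractionRing (A ⧸ p)
    let _ : Algebra R L := (IsLocalization.lift (M := p.primeCompl) (g := algebraMap A L)
      fun s => isUnit_iff_ne_zero.2 fun h0 => s.2 (Ideal.Quotient.eq_zero_iff_mem.1
        (IsFractionRing.injective (A ⧸ p) L ((IsScalarTower.algebraMap_apply A (A ⧸ p) L s.1).symm.trans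
          (h0.trans (map_zero _).symm))))).toAlgebra
    have : IsScalarTower A R L := IsScalarTower.of_algebraMap_eq fun a => (IsLocalization.lift_eq _ a).symm
    have hL : Function.Surjective (algebraMap R L) := by
      intro z
      obtain ⟨a, b, hb, rfl⟩ := IsFractionRing.div_surjective (A := A ⧸ p) z
      obtain ⟨a, rfl⟩ := Ideal.Quotient.mk_surjective a
      obtain ⟨b, rfl⟩ := Ideal.Quotient.mk_surjective b
      have hb' : b ∈ p.primeCompl := fun hbp =>
        nonZeroDivisors.ne_zero hb (Ideal.Quotient.eq_zero_iff_mem.2 hbp)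
      refine ⟨IsLocalization.mk' R a ⟨b, hb'⟩, ?_⟩
      rw [eq_div_iff (fun h0 => nonZeroDivisors.ne_zero hb (IsFractionRing.injective _ L (h0.trans (map_zero _).symm)))]
      have h1 := congrArg (algebraMap R L) (IsLocalization.mk'_spec R a (⟨b, hb'⟩ : p.primeCompl))
      rw [map_mul, ← IsScalarTower.algebraMap_apply, ← IsScalarTower.algebraMap_apply] at h1
      exact h1
    let gR := Spec.map (CommRingCat.ofHom (algebraMap A R))
    let GR := Red.bc gR G
    have : Flat GR.hom := inferInstanceAs (Flat (pullback.snd G.hom gR))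
    have : LocallyOfFiniteType GR.hom := inferInstanceAs (LocallyOfFiniteType (pullback.snd G.hom gR))
    have : QuasiCompact GR.hom := inferInstanceAs (QuasiCompact (pullback.snd G.hom gR))
    have hsepR : c.NeedsSep → IsSeparated GR.hom := fun hc => by
      have := hsep hc
      exact inferInstanceAs (IsSeparated (pullback.snd G.hom gR))
    obtain ⟨e₁⟩ := Borel50.Lin.TorusSch.bc_comp (Spec.map (CommRingCat.ofHom (algebraMap R K))) gR
      (Spec.map (CommRingCat.ofHom (algebraMap A K)))
      (by rw [← Spec.map_comp, ← CommRingCat.ofHom_comp, ← IsScalarTower.algebraMap_eq]) G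
    obtain ⟨e₂⟩ := Borel50.Lin.TorusSch.bc_comp (Spec.map (CommRingCat.ofHom (algebraMap R L))) gR
      (Spec.map (CommRingCat.ofHom (algebraMap A L)))
      (by rw [← Spec.map_comp, ← CommRingCat.ofHom_comp, ← IsScalarTower.algebraMap_eq]) G
    have h1 : HasSub c (Red.bc (Spec.map (CommRingCat.ofHom (algebraMap A L))) G) d :=
      (hasSub_dvr GR hsepR K L hL (h.of_iso e₁.symm)).of_iso e₂
    -- the quotient
    let gp := Spec.map (CommRingCat.ofHom (algebraMap A (A ⧸ p)))
    let Gp := Red.bc gp G
    have : Flat Gp.hom := inferInstanceAs (Flat (pullback.snd G.hom gp))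
    have : LocallyOfFiniteType Gp.hom := inferInstanceAs (LocallyOfFiniteType (pullback.snd G.hom gp))
    have : QuasiCompact Gp.hom := inferInstanceAs (QuasiCompact (pullback.snd G.hom gp))
    have hsepp : c.NeedsSep → IsSeparated Gp.hom := fun hc => by
      have := hsep hc
      exact inferInstanceAs (IsSeparated (pullback.snd G.hom gp))
    have hxk : ∀ a ∈ p, algebraMap A k a = 0 := fun a ha => by
      have hmax : RingHom.ker (algebraMap A k) = maximalIdeal A :=
        IsLocalRing.eq_maximalIdeal (RingHom.ker_isMaximal_of_surjective _ hk)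
      rw [← RingHom.mem_ker, hmax]
      exact (Ideal.span_singleton_le_iff_mem _).2 hx ha
    let _ : Algebra (A ⧸ p) k := (Ideal.Quotient.lift p (algebraMap A k) hxk).toAlgebra
    have hkp : Function.Surjective (algebraMap (A ⧸ p) k) := fun z => by
      obtain ⟨a, rfl⟩ := hk z
      exact ⟨Ideal.Quotient.mk p a, rfl⟩
    obtain ⟨e₃⟩ := Borel50.Lin.TorusSch.bc_comp (Spec.map (CommRingCat.ofHom (algebraMap (A ⧸ p) L))) gp
      (Spec.map (CommRingCat.ofHom (algebraMap A L)))
      (by rw [← Spec.map_comp, ← CommRingCat.ofHom_comp, ← IsScalarTower.algebraMap_eq]) G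
    obtain ⟨e₄⟩ := Borel50.Lin.TorusSch.bc_comp (Spec.map (CommRingCat.ofHom (algebraMap (A ⧸ p) k))) gp
      (Spec.map (CommRingCat.ofHom (algebraMap A k)))
      (by rw [← Spec.map_comp, ← CommRingCat.ofHom_comp]; rfl) G
    exact (ih m (by omega) (A ⧸ p) hm L k hkp Gp c hsepp d (h1.of_iso e₃.symm)).of_iso e₄

end Groth.Agent.GrpScheme.Special
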