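import Groth.Agent.GrpScheme.Special.Spread
import Groth.Agent.GrpScheme.Ext

/-!
# Commutator words of a flat separated group
-/

set_option autoImplicit false
set_option backward.isDefEq.respectTransparency false
set_option synthInstance.maxHeartbeats 400000
set_option maxHeartbeats 1600000

universe u

open CategoryTheory MonoidalCategory CartesianMonoidalCategory MonObj GrpObj AlgebraicGeometry Limits
open scoped commutatorElement

noncomputable section

namespace Groth.Agent.GrpScheme.Special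

variable {S : Scheme.{u}} (G : Over S) [GrpObj G]

lemma conj_nword (n : ℕ) {T : Over S} :
    ∀ (φ : T ⟶ (nword (𝟙 G) n).1) (g : T ⟶ G), ∃ ψ, ψ ≫ (nword (𝟙 G) n).2 = g * (φ ≫ (nword (𝟙 G) n).2) * g⁻¹ := by
  induction n with
  | zero =>
    intro φ g
    change T ⟶ G at φ
    exact ⟨(g * φ * g⁻¹ : T ⟶ G), by simp [nword]⟩
  | succ n ih =>
    intro φ g
    obtain ⟨ψ₁, h₁⟩ := ih (φ ≫ fst _ _) g
    refine ⟨lift ψ₁ (g * (φ ≫ snd _ _) * g⁻¹), ?_⟩
    simp only [nword, Category.comp_id, Solv19.comp_commutator, lift_fst_assoc, lift_snd, h₁, Category.assoc]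
    rw [← conjugate_commutatorElement]

lemma lcs_eq_closure_nword (n : ℕ) (T : Over S) :
    Subgroup.lowerCentralSeries (G := (T ⟶ G)) ⊤ n =
      Subgroup.closure (Set.range fun φ : T ⟶ (nword (𝟙 G) n).1 => φ ≫ (nword (𝟙 G) n).2) := by
  induction n with
  | zero =>
    rw [Subgroup.lowerCentralSeries_zero, eq_comm, eq_top_iff]
    intro x _
    exact Subgroup.subset_closure ⟨x, by simp [nword]⟩
  | succ n ih =>
    have hconj : ∀ a ∈ Set.range (fun φ : T ⟶ (nword (𝟙 G) n).1 => φ ≫ (nword (𝟙 G) n).2), ∀ g,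
        g * a * g⁻¹ ∈ Set.range (fun φ : T ⟶ (nword (𝟙 G) n).1 => φ ≫ (nword (𝟙 G) n).2) := by
      rintro _ ⟨φ, rfl⟩ g
      obtain ⟨ψ, hψ⟩ := conj_nword G n φ g
      exact ⟨ψ, hψ⟩
    rw [Subgroup.lowerCentralSeries_succ, ih]
    rw [show (⊤ : Subgroup (T ⟶ G)) = Subgroup.closure Set.univ from Subgroup.closure_univ.symm,
      S5366.commutator_closure _ _ hconj (fun _ _ _ => Set.mem_univ _)]
    congr 1
    ext x
    constructor
    · rintro ⟨_, ⟨φ, rfl⟩, b, -, rfl⟩
      exact ⟨lift φ b, by simp [nword, Solv19.comp_commutator]⟩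
    · rintro ⟨φ, rfl⟩
      exact ⟨_, ⟨φ ≫ fst _ _, rfl⟩, φ ≫ snd _ _, trivial, by simp [nword, Solv19.comp_commutator]⟩

variable {S' : Scheme.{u}} (f : S' ⟶ S) [IsSchemeTheoreticallyDominant f] [QuasiCompact f]

/-- Morphisms from a flat scheme to a separated group agreeing after a dominant base change agree. -/
lemma eq_one_of_bc [IsSeparated G.hom] {T : Over S} [Flat T.hom] (w : T ⟶ G)
    (h : (Over.pullback f).map w = 1) : w = 1 := by
  have h' : (Over.pullback f).map w = (Over.pullback f).map 1 := by rw [h, Functor.map_one]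
  refine Over.OverMorphism.ext (Ext.ext_of_schematicallyDominant (pullback.fst T.hom f) G.hom
    (by rw [Over.w, Over.w]) ?_)
  have e : ∀ g : T ⟶ G, ((Over.pullback f).map g).left ≫ pullback.fst G.hom f = pullback.fst T.hom f ≫ g.left :=
    fun g => pullback.lift_fst _ _ _
  rw [← e, ← e, h']

lemma map_eq_one_of_pts {T : Over S} (w : T ⟶ G)
    (h : ∀ φ : (Over.map f).obj ((Over.pullback f).obj T) ⟶ T, φ ≫ w = 1) : (Over.pullback f).map w = 1 := by
  let e := bcPts f G ((Over.pullback f).obj T)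
  have h1 := h ((Over.mapPullbackAdj f).counit.app T)
  have : (Over.pullback f).map w = e ((Over.mapPullbackAdj f).counit.app T ≫ w) := by
    show _ = (Over.mapPullbackAdj f).homEquiv _ _ _
    rw [Adjunction.homEquiv_naturality_right, Adjunction.homEquiv_unit, Adjunction.right_triangle_components,
      Category.id_comp]
  rw [this, h1, map_one]

/-- Solvability of a flat separated group is detected on a dominant base change. -/
theorem isSolvableGrp_of_bc [IsSeparated G.hom] [Flat G.hom] [LocallyOfFiniteType G.hom]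
    (h : Red.IsSolvableGrp (Red.bc f G)) {S'' : Scheme.{u}} (g : S'' ⟶ S) : Red.IsSolvableGrp (Red.bc g G) := by
  obtain ⟨n, hn⟩ := h
  refine ⟨n, fun X => map_derivedSeries_bot (bcPts g G X) n ?_⟩
  have := Solv19.derivedSeries_eq_bot_iff G n ((Over.map g).obj X)
  refine this.2 fun φ => ?_
  have hflat : ∀ m, Flat (Solv19.word G m).1.hom := by
    intro m
    induction m with
    | zero => exact inferInstanceAs (Flat G.hom)
    | succ m ih => exact inferInstanceAs (Flat (pullback.fst (Solv19.word G m).1.hom (Solv19.word G m).1.hom ≫ (Solv19.word G m).1.hom))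
  have := hflat n
  have hw : (Solv19.word G n).2 = 1 := eq_one_of_bc G f _ (map_eq_one_of_pts G f _ fun φ' => by
    exact (Solv19.derivedSeries_eq_bot_iff G n _).1 (map_derivedSeries_bot (bcPts f G _).symm n (hn _)) φ')
  rw [hw, MonObj.comp_one]

/-- Nilpotency of a flat separated group is detected on a dominant base change. -/
theorem isNilpotentGrp_of_bc [IsSeparated G.hom] [Flat G.hom] [LocallyOfFiniteType G.hom]
    (h : AGF.IsNilpotentGrp (Red.bc f G)) {S'' : Scheme.{u}} (g : S'' ⟶ S) : AGF.IsNilpotentGrp (Red.bc g G) := by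
  obtain ⟨n, hn⟩ := h
  refine ⟨n, fun X => Subgroup.lowerCentralSeries_eq_bot_iff_upperCentralSeries_eq_top.mp
    (map_lcs_bot (bcPts g G X) n ?_)⟩
  obtain ⟨_, _⟩ := flat_nword (𝟙 G) n
  have hw : (nword (𝟙 G) n).2 = 1 := eq_one_of_bc G f _ (map_eq_one_of_pts G f _ fun φ' => by
    have h1 := map_lcs_bot (bcPts f G ((Over.pullback f).obj (nword (𝟙 G) n).1)).symm n
      (Subgroup.lowerCentralSeries_eq_bot_iff_upperCentralSeries_eq_top.mpr (hn _))
    rw [lcs_eq_closure_nword, Subgroup.closure_eq_bot_iff] at h1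
    exact h1 ⟨φ', rfl⟩)
  rw [lcs_eq_closure_nword, Subgroup.closure_eq_bot_iff]
  rintro _ ⟨φ, rfl⟩
  show φ ≫ (nword (𝟙 G) n).2 = 1
  rw [hw, MonObj.comp_one]

end Groth.Agent.GrpScheme.Special
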