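import Groth.Agent.GrpScheme.Special.Core
import Groth.Agent.Borel50.BaseChange
import Groth.Agent.Borel50.Lin.TorusSch
import Groth.Agent.DiagRig.TorusQuot
import Groth.Agent.S4642

/-!
# Connected subgroups along specialisations and extensions of algebraically closed fields
-/

set_option autoImplicit false
set_option backward.isDefEq.respectTransparency false
set_option synthInstance.maxHeartbeats 400000
set_option maxHeartbeats 1600000

universe u

open CategoryTheory MonoidalCategory CartesianMonoidalCategory MonObj GrpObj AlgebraicGeometry Limits IsLocalRing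

noncomputable section

namespace Groth.Agent.GrpScheme.Special

attribute [-instance] Groth.Agent.GrpArtin.grpObjBC

/-! ### Valuation rings -/

section Valuation

variable {F : Type u} [Field F]

/-- The residue field of a valuation ring of an algebraically closed field is algebraically closed. -/
lemma isAlgClosed_residueField [IsAlgClosed F] (A : ValuationSubring F) : IsAlgClosed (ResidueField A) := by
  refine IsAlgClosed.of_exists_root _ fun p hp hirr => ?_
  obtain ⟨P, hPmap, hPdeg, hPm⟩ := Polynomial.lifts_and_degree_eq_and_monic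
    (Polynomial.mem_lifts_of_surjective IsLocalRing.residue_surjective p) hp
  obtain ⟨x, hx⟩ := IsAlgClosed.exists_root (P.map (algebraMap A F)) (by
    rw [hPm.degree_map, hPdeg]; exact (Polynomial.degree_pos_of_irreducible hirr).ne')
  have hint : IsIntegral A x := ⟨P, hPm, by rwa [Polynomial.IsRoot, Polynomial.eval_map] at hx⟩
  obtain ⟨a, ha⟩ := IsIntegrallyClosed.algebraMap_eq_of_integral hint
  refine ⟨IsLocalRing.residue A a, ?_⟩
  have h0 : P.eval a = 0 := by
    apply IsFractionRing.injective A F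
    rw [map_zero, ← Polynomial.eval₂_at_apply, ha, ← Polynomial.eval_map]
    exact hx
  rw [← hPmap, Polynomial.eval_map, Polynomial.eval₂_at_apply, h0, map_zero]

/-- An algebraically closed field extension has a place with residue field the ground field. -/
theorem exists_place (k : Type u) [Field k] [IsAlgClosed k] [Algebra k F] :
    ∃ (A : ValuationSubring F) (h : ∀ c : k, algebraMap k F c ∈ A),
      Function.Bijective ((IsLocalRing.residue A).comp ((algebraMap k F).codRestrict A.toSubring h)) := by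
  classical
  let 𝒮 : Set (Subring F) := {R | (∀ c, algebraMap k F c ∈ R) ∧ ∀ x, x ∈ R ∨ x⁻¹ ∈ R}
  obtain ⟨R, -, ⟨hR, hmin⟩⟩ := zorn_le_nonempty₀ (α := (Subring F)ᵒᵈ) {R | OrderDual.ofDual R ∈ 𝒮} (by
    intro c hc hchain y hy
    refine ⟨OrderDual.toDual (sInf (OrderDual.ofDual '' c)), ⟨fun r => Subring.mem_sInf.2 ?_, fun x => ?_⟩, ?_⟩
    · rintro _ ⟨T, hT, rfl⟩; exact (hc hT).1 r
    · by_contra hx
      push Not at hx
      obtain ⟨h1, h2⟩ := hx
      simp only [OrderDual.ofDual_toDual, Subring.mem_sInf, not_forall] at h1 h2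
      obtain ⟨_, ⟨T₁, hT₁, rfl⟩, hx₁⟩ := h1
      obtain ⟨_, ⟨T₂, hT₂, rfl⟩, hx₂⟩ := h2
      rcases hchain.total hT₁ hT₂ with h | h
      · exact hx₂ ((hc hT₂).2 x |>.elim (fun hh => absurd (h hh) hx₁) id)
      · exact hx₁ ((hc hT₁).2 x |>.elim id (fun hh => absurd (h hh) hx₂))
    · intro T hT
      exact (sInf_le (Set.mem_image_of_mem _ hT) : sInf (OrderDual.ofDual '' c) ≤ OrderDual.ofDual T)) (OrderDual.toDual ⊤) ⟨fun _ => trivial, fun _ => Or.inl trivial⟩
  let A : ValuationSubring F := { (OrderDual.ofDual R) with mem_or_inv_mem' := hR.2 }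
  have hA : ∀ c, algebraMap k F c ∈ A := hR.1
  refine ⟨A, hA, RingHom.injective _, fun z => ?_⟩
  let ρ : k →+* ResidueField A := (IsLocalRing.residue A).comp ((algebraMap k F).codRestrict A.toSubring hA)
  letI : Algebra k (ResidueField A) := ρ.toAlgebra
  suffices hz : IsIntegral k z from minpoly.mem_range_of_degree_eq_one k z
    (IsAlgClosed.degree_eq_one_of_irreducible k (minpoly.irreducible hz))
  by_contra hnz
  have htr : Transcendental k z := fun halg => hnz halg.isIntegral
  let S : Subring (ResidueField A) := (Algebra.adjoin k {z}).toSubring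
  let zS : S := ⟨z, Algebra.subset_adjoin rfl⟩
  have hI : Ideal.span {zS} ≠ ⊤ := by
    rw [Ne, Ideal.span_singleton_eq_top]
    rintro ⟨u, hu⟩
    obtain ⟨q, hq⟩ : ∃ q : Polynomial k, Polynomial.aeval z q = ((↑u⁻¹ : S) : ResidueField A) := by
      have hb : ((↑u⁻¹ : S) : ResidueField A) ∈ Algebra.adjoin k {z} := (↑u⁻¹ : S).2
      rwa [Algebra.adjoin_singleton_eq_range_aeval] at hb
    refine htr ⟨Polynomial.X * q - 1, fun h => ?_, ?_⟩
    · have := congrArg (Polynomial.coeff · 0) h
      simp at this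
    · rw [map_sub, map_mul, Polynomial.aeval_X, hq, map_one]
      refine sub_eq_zero.2 ?_
      have h1 := congrArg Subtype.val u.mul_inv
      rw [hu] at h1
      exact h1
  obtain ⟨W, hW, hWI⟩ := Ideal.image_subset_nonunits_valuationSubring _ hI
  let R' : Subring F := (W.toSubring.comap (IsLocalRing.residue A)).map A.subtype
  have hle : R' ≤ OrderDual.ofDual R := by
    rintro _ ⟨a, -, rfl⟩
    exact a.2
  have hR' : R' ∈ 𝒮 := by
    refine ⟨fun c => ⟨⟨_, hA c⟩, hW ?_, rfl⟩, fun x => ?_⟩
    · exact (Algebra.adjoin k {z}).algebraMap_mem c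
    · rcases A.mem_or_inv_mem x with hx | hx
      · by_cases hu : IsUnit (⟨x, hx⟩ : A)
        · rcases W.mem_or_inv_mem (IsLocalRing.residue A ⟨x, hx⟩) with h | h
          · exact Or.inl ⟨_, h, rfl⟩
          · obtain ⟨u, hu'⟩ := hu
            refine Or.inr ⟨(↑u⁻¹ : A), ?_, ?_⟩
            · show IsLocalRing.residue A (↑u⁻¹ : A) ∈ W
              rwa [map_units_inv, hu']
            · show ((↑u⁻¹ : A) : F) = x⁻¹
              rw [show x = ((↑u : A) : F) by rw [hu']]
              exact map_units_inv A.subtype u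
        · refine Or.inl ⟨⟨x, hx⟩, ?_, rfl⟩
          show IsLocalRing.residue A ⟨x, hx⟩ ∈ W
          rw [(IsLocalRing.residue_eq_zero_iff _).2 ((IsLocalRing.mem_maximalIdeal _).2 hu)]
          exact W.zero_mem
      · by_cases hu : IsUnit (⟨x⁻¹, hx⟩ : A)
        · rcases W.mem_or_inv_mem (IsLocalRing.residue A ⟨x⁻¹, hx⟩) with h | h
          · exact Or.inr ⟨_, h, rfl⟩
          · obtain ⟨u, hu'⟩ := hu
            refine Or.inl ⟨(↑u⁻¹ : A), ?_, ?_⟩
            · show IsLocalRing.residue A (↑u⁻¹ : A) ∈ W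
              rwa [map_units_inv, hu']
            · show ((↑u⁻¹ : A) : F) = x
              rw [show x = (((↑u : A) : F))⁻¹ by rw [hu', _root_.inv_inv]]
              exact map_units_inv A.subtype u
        · refine Or.inr ⟨⟨x⁻¹, hx⟩, ?_, rfl⟩
          show IsLocalRing.residue A ⟨x⁻¹, hx⟩ ∈ W
          rw [(IsLocalRing.residue_eq_zero_iff _).2 ((IsLocalRing.mem_maximalIdeal _).2 hu)]
          exact W.zero_mem
  have heq : OrderDual.ofDual R ≤ R' := hmin (y := OrderDual.toDual R') hR' hle
  obtain ⟨a, ha⟩ := IsLocalRing.residue_surjective z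
  have hzW : z ∈ W.nonunits := hWI ⟨zS, Ideal.subset_span rfl, rfl⟩
  have hz0 : z ≠ 0 := fun h => hnz (h ▸ isIntegral_zero)
  have hau : IsUnit a := by
    by_contra hau
    exact hz0 (ha.symm.trans ((IsLocalRing.residue_eq_zero_iff _).2 ((IsLocalRing.mem_maximalIdeal _).2 hau)))
  obtain ⟨u, rfl⟩ := hau
  obtain ⟨b, hb, hb'⟩ := heq (show ((↑u⁻¹ : A) : F) ∈ OrderDual.ofDual R from (↑u⁻¹ : A).2)
  have hinv : z⁻¹ ∈ W := by
    have hbu : b = (↑u⁻¹ : A) := Subtype.ext hb'
    have : IsLocalRing.residue A b ∈ W := hb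
    rwa [hbu, map_units_inv, ha] at this
  have h1 := W.inv_mem_nonunits_iff.mp (show (z⁻¹)⁻¹ ∈ W.nonunits by rwa [_root_.inv_inv])
  exact h1.elim (inv_ne_zero hz0) (fun h => h hinv)

end Valuation

/-! ### Transfer along base change -/

section Transfer

variable {S S' : Scheme.{u}}

/-- Points of a base change. -/
def bcPts (g : S' ⟶ S) (G : Over S) [GrpObj G] (Y : Over S') :
    ((Over.map g).obj Y ⟶ G) ≃* (Y ⟶ Red.bc g G) :=
  { (Over.mapPullbackAdj g).homEquiv _ _ with
    map_mul' := fun a b => by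
      show (Over.mapPullbackAdj g).homEquiv _ _ (a * b) = _ * _
      simp only [Adjunction.homEquiv_unit, Functor.map_mul, MonObj.comp_mul, Equiv.toFun_as_coe] }

lemma map_derivedSeries_bot {A B : Type*} [Group A] [Group B] (e : A ≃* B) (n : ℕ) (h : derivedSeries A n = ⊥) :
    derivedSeries B n = ⊥ := by
  rw [eq_bot_iff, ← map_derivedSeries_eq (f := e.toMonoidHom) e.surjective n, h, Subgroup.map_bot]

lemma map_lcs_bot {A B : Type*} [Group A] [Group B] (e : A ≃* B) (n : ℕ)
    (h : Subgroup.lowerCentralSeries (⊤ : Subgroup A) n = ⊥) : Subgroup.lowerCentralSeries (⊤ : Subgroup B) n = ⊥ := by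
  have hm := Subgroup.map_lowerCentralSeries (⊤ : Subgroup A) e.toMonoidHom n
  rw [h, Subgroup.map_bot, Subgroup.map_top_of_surjective _ e.surjective] at hm
  exact hm.symm

variable {k k' : Type u} [Field k] [Field k']

lemma word_bc (g : Spec (CommRingCat.of k') ⟶ Spec (CommRingCat.of k)) (R : Over (Spec (CommRingCat.of k))) [GrpObj R]
    (n : ℕ) (h : (Solv19.word R n).2 = 1) : (Solv19.word (Red.bc g R) n).2 = 1 := by
  refine (Category.id_comp _).symm.trans ((Solv19.derivedSeries_eq_bot_iff _ n _).mp ?_ (𝟙 _))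
  exact map_derivedSeries_bot (bcPts g R _) n
    ((Solv19.derivedSeries_eq_bot_iff R n _).mpr fun φ => by rw [h, MonObj.comp_one])

lemma lword_bc (g : Spec (CommRingCat.of k') ⟶ Spec (CommRingCat.of k)) (R : Over (Spec (CommRingCat.of k))) [GrpObj R]
    (n : ℕ) (h : (S18072.lword R n).2 = 1) : (S18072.lword (Red.bc g R) n).2 = 1 := by
  have h' := map_lcs_bot (bcPts g R (S18072.lword (Red.bc g R) n).1) n (by
    rw [S18072.lcs_eq_closure, Subgroup.closure_eq_bot_iff]
    rintro _ ⟨φ, rfl⟩
    show φ ≫ (S18072.lword R n).2 = 1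
    rw [h, MonObj.comp_one])
  rw [S18072.lcs_eq_closure, Subgroup.closure_eq_bot_iff] at h'
  exact h' ⟨𝟙 _, Category.id_comp _⟩

/-- Commutator words vanishing on `H` vanish on `R`. -/
def WordsLE (H : Over (Spec (CommRingCat.of k))) [GrpObj H] (R : Over (Spec (CommRingCat.of k'))) [GrpObj R] : Prop :=
  (∀ n, (Solv19.word H n).2 = 1 → (Solv19.word R n).2 = 1) ∧
    ∀ n, (S18072.lword H n).2 = 1 → (S18072.lword R n).2 = 1

end Transfer

/-- A connected subgroup over a larger algebraically closed field gives one over the smaller. -/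
theorem exists_descend {k F : Type u} [Field k] [IsAlgClosed k] [Field F] [IsAlgClosed F] [Algebra k F]
    (G : Over (Spec (CommRingCat.of k))) [GrpObj G] [LocallyOfFiniteType G.hom] [QuasiCompact G.hom]
    (H : Over (Spec (CommRingCat.of F))) [GrpObj H]
    (i : H ⟶ Red.bc (Spec.map (CommRingCat.ofHom (algebraMap k F))) G) [IsMonHom i] [IsClosedImmersion i.left]
    [Smooth H.hom] [ConnectedSpace H.left] :
    ∃ (R : Over (Spec (CommRingCat.of k))) (_ : GrpObj R) (r : R ⟶ G),
      IsMonHom r ∧ IsClosedImmersion r.left ∧ Smooth R.hom ∧ ConnectedSpace R.left ∧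
      topologicalKrullDim H.left ≤ topologicalKrullDim R.left ∧ WordsLE H R := by
  obtain ⟨A, hA, hbij⟩ := exists_place (F := F) k
  have := isAlgClosed_residueField A
  let cA : k →+* A := (algebraMap k F).codRestrict A.toSubring hA
  let sA : Spec (CommRingCat.of A) ⟶ Spec (CommRingCat.of k) := Spec.map (CommRingCat.ofHom cA)
  let GA := Red.bc sA G
  have : LocallyOfFiniteType GA.hom := inferInstanceAs (LocallyOfFiniteType (pullback.snd G.hom sA))
  have : QuasiCompact GA.hom := inferInstanceAs (QuasiCompact (pullback.snd G.hom sA))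
  obtain ⟨e₁⟩ := Borel50.Lin.TorusSch.bc_comp (gK A F) sA (Spec.map (CommRingCat.ofHom (algebraMap k F)))
    (by rw [← Spec.map_comp]; rfl) G
  let i' : H ⟶ Red.bc (gK A F) GA := i ≫ e₁.inv.hom.hom
  have : IsIso e₁.inv.hom.hom.left := ((Over.forget _).mapIso ((Grp.forget _).mapIso e₁)).isIso_inv
  have : IsMonHom e₁.inv.hom.hom := inferInstance
  have : IsMonHom i' := inferInstanceAs (IsMonHom (i ≫ e₁.inv.hom.hom))
  have : IsClosedImmersion i'.left := inferInstanceAs (IsClosedImmersion (i.left ≫ e₁.inv.hom.hom.left))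
  obtain ⟨R, gR, r, hrm, hrc, hRs, hRc, hdim, hw, hl⟩ := exists_special H i'
  let ε : k ≃+* ResidueField A := RingEquiv.ofBijective _ hbij
  let se : Spec (CommRingCat.of k) ⟶ Spec (CommRingCat.of (ResidueField A)) :=
    Spec.map (CommRingCat.ofHom ε.symm.toRingHom)
  have : IsIso (CommRingCat.ofHom ε.symm.toRingHom) := ε.symm.toCommRingCatIso.isIso_hom
  have : IsIso se := inferInstanceAs (IsIso (Spec.map _))
  have hcomp : se ≫ gk A ≫ sA = 𝟙 _ := by
    rw [← Spec.map_comp, ← Spec.map_comp, ← Spec.map_id]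
    congr 1
    ext c
    exact ε.symm_apply_apply c
  obtain ⟨e₂⟩ := Borel50.Lin.TorusSch.bc_comp (gk A) sA (gk A ≫ sA) rfl G
  obtain ⟨e₃⟩ := Borel50.Lin.TorusSch.bc_comp se (gk A ≫ sA) (𝟙 _) hcomp.symm G
  obtain ⟨e₄⟩ := DiagRig.TorusQuot.exists_bcId G
  let E : Grp.mk (Red.bc se (Red.bc (gk A) GA)) ≅ Grp.mk G :=
    (Over.pullback se).mapGrp.mapIso e₂ ≪≫ e₃ ≪≫ e₄
  have : IsIso E.hom.hom.hom.left := ((Over.forget _).mapIso ((Grp.forget _).mapIso E)).isIso_hom
  have : IsMonHom E.hom.hom.hom := inferInstance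
  have : IsClosedImmersion ((Over.pullback se).map r).left := LimGrp.property_map @IsClosedImmersion se r hrc
  refine ⟨Red.bc se R, inferInstance, (Over.pullback se).map r ≫ E.hom.hom.hom, inferInstance, ?_,
    inferInstanceAs (Smooth (pullback.snd R.hom se)), Borel50.BaseChange.connectedSpace_bc se R, ?_, ?_⟩
  · rw [Over.comp_left]; infer_instance
  · refine hdim.trans (le_of_eq ?_)
    have : IsIso (pullback.fst R.hom se) := inferInstance
    exact (Scheme.homeoOfIso (asIso (pullback.fst R.hom se))).isHomeomorph.topologicalKrullDim_eq.symm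
  · exact ⟨fun n h => word_bc se R n (hw n h), fun n h => lword_bc se R n (hl n h)⟩

/-- Connected subgroups of geometric fibres specialise. -/
theorem exists_specialise {S : Scheme.{u}} (G : Over S) [GrpObj G] [LocallyOfFiniteType G.hom] [QuasiCompact G.hom]
    {s t : S} (hst : s ⤳ t) (H : Over (Spec (CommRingCat.of (AlgebraicClosure (S.residueField s))))) [GrpObj H]
    (i : H ⟶ Red.geomFibre s G) [IsMonHom i] [IsClosedImmersion i.left] [Smooth H.hom] [ConnectedSpace H.left] :
    ∃ (R : Over (Spec (CommRingCat.of (AlgebraicClosure (S.residueField t))))) (_ : GrpObj R) (r : R ⟶ Red.geomFibre t G),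
      IsMonHom r ∧ IsClosedImmersion r.left ∧ Smooth R.hom ∧ ConnectedSpace R.left ∧
      topologicalKrullDim H.left ≤ topologicalKrullDim R.left ∧ WordsLE H R := by
  let K := AlgebraicClosure (S.residueField s)
  let φ : S.presheaf.stalk t ⟶ CommRingCat.of K :=
    (S.presheaf.stalkSpecializes hst ≫ S.residue s) ≫ CommRingCat.ofHom (algebraMap (S.residueField s) K)
  obtain ⟨A, hA, hAloc⟩ := exists_factor_valuationRing φ.hom
  have := isAlgClosed_residueField A
  let ψ : S.presheaf.stalk t ⟶ CommRingCat.of A := CommRingCat.ofHom (φ.hom.codRestrict _ hA)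
  let gA : Spec (CommRingCat.of A) ⟶ S := Spec.map ψ ≫ S.fromSpecStalk t
  have hgK : gK A K ≫ gA = Red.geomPt s := by
    show _ = Spec.map _ ≫ S.fromSpecResidueField s
    rw [Scheme.fromSpecResidueField, ← Scheme.SpecMap_stalkSpecializes_fromSpecStalk hst,
      ← Spec.map_comp_assoc, ← Spec.map_comp_assoc, ← Spec.map_comp_assoc]
    rfl
  let GA := Red.bc gA G
  have : LocallyOfFiniteType GA.hom := inferInstanceAs (LocallyOfFiniteType (pullback.snd G.hom gA))
  have : QuasiCompact GA.hom := inferInstanceAs (QuasiCompact (pullback.snd G.hom gA))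
  obtain ⟨e₁⟩ := Borel50.Lin.TorusSch.bc_comp (gK A K) gA (Red.geomPt s) hgK.symm G
  let i' : H ⟶ Red.bc (gK A K) GA := i ≫ e₁.inv.hom.hom
  have : IsIso e₁.inv.hom.hom.left := ((Over.forget _).mapIso ((Grp.forget _).mapIso e₁)).isIso_inv
  have : IsMonHom e₁.inv.hom.hom := inferInstance
  have : IsMonHom i' := inferInstanceAs (IsMonHom (i ≫ e₁.inv.hom.hom))
  have : IsClosedImmersion i'.left := inferInstanceAs (IsClosedImmersion (i.left ≫ e₁.inv.hom.hom.left))
  obtain ⟨R, gR, r, hrm, hrc, hRs, hRc, hdim, hw, hl⟩ := exists_special H i'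
  haveI : IsLocalHom ψ.hom := hAloc
  let ρ : S.residueField t →+* ResidueField A := IsLocalRing.ResidueField.map ψ.hom
  letI : Algebra (S.residueField t) (ResidueField A) := ρ.toAlgebra
  let k := AlgebraicClosure (S.residueField t)
  let χ : k →ₐ[S.residueField t] ResidueField A := IsAlgClosed.lift
  letI : Algebra k (ResidueField A) := χ.toRingHom.toAlgebra
  let sχ := Spec.map (CommRingCat.ofHom (algebraMap k (ResidueField A)))
  have hgk : gk A ≫ gA = sχ ≫ Red.geomPt t := by
    show _ = sχ ≫ Spec.map _ ≫ S.fromSpecResidueField t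
    rw [Scheme.fromSpecResidueField, ← Spec.map_comp_assoc, ← Spec.map_comp_assoc, ← Spec.map_comp_assoc]
    congr 2
    ext a
    exact (χ.commutes (IsLocalRing.residue _ a)).symm
  let Gt := Red.geomFibre t G
  have : LocallyOfFiniteType Gt.hom := inferInstanceAs (LocallyOfFiniteType (pullback.snd G.hom (Red.geomPt t)))
  have : QuasiCompact Gt.hom := inferInstanceAs (QuasiCompact (pullback.snd G.hom (Red.geomPt t)))
  obtain ⟨e₂⟩ := Borel50.Lin.TorusSch.bc_comp (gk A) gA (gk A ≫ gA) rfl G
  obtain ⟨e₃⟩ := Borel50.Lin.TorusSch.bc_comp sχ (Red.geomPt t) (gk A ≫ gA) hgk G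
  let r' : R ⟶ Red.bc sχ Gt := r ≫ (e₂ ≪≫ e₃.symm).hom.hom.hom
  have : IsIso (e₂ ≪≫ e₃.symm).hom.hom.hom.left :=
    ((Over.forget _).mapIso ((Grp.forget _).mapIso (e₂ ≪≫ e₃.symm))).isIso_hom
  have : IsMonHom (e₂ ≪≫ e₃.symm).hom.hom.hom := inferInstance
  have : IsMonHom r' := inferInstanceAs (IsMonHom (r ≫ (e₂ ≪≫ e₃.symm).hom.hom.hom))
  have : IsClosedImmersion r'.left := inferInstanceAs (IsClosedImmersion (r.left ≫ _))
  obtain ⟨R₀, gR₀, r₀, h1, h2, h3, h4, h5, h6⟩ := exists_descend (k := k) (F := ResidueField A) Gt R r'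
  exact ⟨R₀, gR₀, r₀, h1, h2, h3, h4, hdim.trans h5, fun n h => h6.1 n (hw n h), fun n h => h6.2 n (hl n h)⟩

end Groth.Agent.GrpScheme.Special
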