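import Groth.Agent.Solv19.Word
import Groth.Agent.S18072

/-!
# Commutator words with values on a subscheme of a group
-/

set_option autoImplicit false
set_option backward.isDefEq.respectTransparency false

universe u

open CategoryTheory MonoidalCategory CartesianMonoidalCategory MonObj GrpObj AlgebraicGeometry Limits
open scoped commutatorElement

noncomputable section

namespace Groth.Agent.GrpScheme.Special

variable {S : Scheme.{u}} {G : Over S} [GrpObj G]

/-- The iterated commutator word of the derived series, with entries in `X`. -/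
def sword {X : Over S} (a : X ⟶ G) : ℕ → Σ T : Over S, T ⟶ G
  | 0 => ⟨X, a⟩
  | n + 1 => ⟨(sword a n).1 ⊗ (sword a n).1,
      ⁅fst (sword a n).1 (sword a n).1 ≫ (sword a n).2, snd (sword a n).1 (sword a n).1 ≫ (sword a n).2⁆⟩

/-- The iterated commutator word of the lower central series, with entries in `X`. -/
def nword {X : Over S} (a : X ⟶ G) : ℕ → Σ T : Over S, T ⟶ G
  | 0 => ⟨X, a⟩
  | n + 1 => ⟨(nword a n).1 ⊗ X, ⁅fst (nword a n).1 X ≫ (nword a n).2, snd (nword a n).1 X ≫ a⁆⟩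

lemma flat_sword {X : Over S} [Flat X.hom] [LocallyOfFiniteType X.hom] (a : X ⟶ G) (n : ℕ) :
    Flat (sword a n).1.hom ∧ LocallyOfFiniteType (sword a n).1.hom := by
  induction n with
  | zero => exact ⟨‹_›, ‹_›⟩
  | succ n ih =>
    obtain ⟨_, _⟩ := ih
    exact ⟨inferInstanceAs (Flat (pullback.fst (sword a n).1.hom (sword a n).1.hom ≫ (sword a n).1.hom)),
      inferInstanceAs (LocallyOfFiniteType (pullback.fst (sword a n).1.hom (sword a n).1.hom ≫ (sword a n).1.hom))⟩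

lemma flat_nword {X : Over S} [Flat X.hom] [LocallyOfFiniteType X.hom] (a : X ⟶ G) (n : ℕ) :
    Flat (nword a n).1.hom ∧ LocallyOfFiniteType (nword a n).1.hom := by
  induction n with
  | zero => exact ⟨‹_›, ‹_›⟩
  | succ n ih =>
    obtain ⟨_, _⟩ := ih
    exact ⟨inferInstanceAs (Flat (pullback.fst (nword a n).1.hom X.hom ≫ (nword a n).1.hom)),
      inferInstanceAs (LocallyOfFiniteType (pullback.fst (nword a n).1.hom X.hom ≫ (nword a n).1.hom))⟩

variable {k : Type u} [Field k] {M : Over (Spec (CommRingCat.of k))} [GrpObj M]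

section

variable {P Z : Over S} (zz : Z ⟶ G) (F : (𝟙_ (Over (Spec (CommRingCat.of k))) ⟶ M) →* (P ⟶ G))

lemma exists_word_point (h : ∀ z : P ⟶ Z, ∃ x, F x = z ≫ zz) (n : ℕ) :
    ∀ φ : P ⟶ (sword zz n).1, ∃ ψ, F (ψ ≫ (Solv19.word M n).2) = φ ≫ (sword zz n).2 := by
  induction n with
  | zero =>
    intro φ
    obtain ⟨x, hx⟩ := h φ
    exact ⟨x, (congrArg F (Category.comp_id x)).trans hx⟩
  | succ n ih =>
    intro φ
    obtain ⟨ψ₁, h₁⟩ := ih (φ ≫ fst _ _)
    obtain ⟨ψ₂, h₂⟩ := ih (φ ≫ snd _ _)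
    refine ⟨lift ψ₁ ψ₂, ?_⟩
    simp only [Solv19.word, sword, Solv19.comp_commutator, lift_fst_assoc, lift_snd_assoc, map_commutatorElement, h₁, h₂,
      Category.assoc]

lemma exists_sword_point (h : ∀ x, ∃ z : P ⟶ Z, F x = z ≫ zz) (n : ℕ) :
    ∀ ψ : 𝟙_ _ ⟶ (Solv19.word M n).1, ∃ φ, F (ψ ≫ (Solv19.word M n).2) = φ ≫ (sword zz n).2 := by
  induction n with
  | zero =>
    intro ψ
    obtain ⟨z, hz⟩ := h ψ
    exact ⟨z, (congrArg F (Category.comp_id ψ)).trans hz⟩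
  | succ n ih =>
    intro ψ
    obtain ⟨φ₁, h₁⟩ := ih (ψ ≫ fst _ _)
    obtain ⟨φ₂, h₂⟩ := ih (ψ ≫ snd _ _)
    refine ⟨lift φ₁ φ₂, ?_⟩
    simp only [Solv19.word, sword, Solv19.comp_commutator, lift_fst_assoc, lift_snd_assoc, map_commutatorElement, ← h₁,
      ← h₂, Category.assoc]

lemma exists_lword_point (h : ∀ z : P ⟶ Z, ∃ x, F x = z ≫ zz) (n : ℕ) :
    ∀ φ : P ⟶ (nword zz n).1, ∃ ψ, F (ψ ≫ (S18072.lword M n).2) = φ ≫ (nword zz n).2 := by
  induction n with
  | zero =>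
    intro φ
    obtain ⟨x, hx⟩ := h φ
    exact ⟨x, (congrArg F (Category.comp_id x)).trans hx⟩
  | succ n ih =>
    intro φ
    obtain ⟨ψ₁, h₁⟩ := ih (φ ≫ fst _ _)
    obtain ⟨x, hx⟩ := h (φ ≫ snd _ _)
    refine ⟨lift ψ₁ x, ?_⟩
    simp only [S18072.lword, nword, Solv19.comp_commutator, lift_fst_assoc, lift_snd, map_commutatorElement, h₁, hx,
      Category.assoc]

lemma exists_nword_point (h : ∀ x, ∃ z : P ⟶ Z, F x = z ≫ zz) (n : ℕ) :
    ∀ ψ : 𝟙_ _ ⟶ (S18072.lword M n).1, ∃ φ, F (ψ ≫ (S18072.lword M n).2) = φ ≫ (nword zz n).2 := by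
  induction n with
  | zero =>
    intro ψ
    obtain ⟨z, hz⟩ := h ψ
    exact ⟨z, (congrArg F (Category.comp_id ψ)).trans hz⟩
  | succ n ih =>
    intro ψ
    obtain ⟨φ₁, h₁⟩ := ih (ψ ≫ fst _ _)
    obtain ⟨z, hz⟩ := h (ψ ≫ snd _ _)
    refine ⟨lift φ₁ z, ?_⟩
    simp only [S18072.lword, nword, Solv19.comp_commutator, lift_fst_assoc, lift_snd_assoc, map_commutatorElement, ← h₁,
      ← hz, Category.assoc]

end

end Groth.Agent.GrpScheme.Special
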